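import Cfsg.Agent.BMx.Fast
import Cfsg.Agent.TAB.Eng.Fib
import Cfsg.Agent.H723.Pair.BChar
import Cfsg.Agent.TAB.M4.Rest_m3
import Cfsg.Agent.H633.Ore.Lin
import Cfsg.Agent.Monster.PauliBits
import Cfsg.Agent.BabyM.QAct
import Cfsg.Agent.BabyM.KFact
import Cfsg.Agent.BabyM.KCore
import Cfsg.Agent.Prune
set_option linter.all false

section
prune_inst 0x7ffefbf8efaabbffffff7e3ff7ddeffc3bc11fffe6dff9437fe1ebbf5fff03754be5fbaf0de4b0fcced6601c10b87853fb7eefffe06fdc7ffffdfff41ffbee4ff7ffb50c71d4bc341ffc2fff93f07fa86f3fffffffffffffffffffffffffffffffbfffffffff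

-- part: TAB/B/Tr
section
prune_inst 0x10406105540000000004000220002401620000000003080061440a000fc8220080400f20b0b0210218e6208458300000000000400000000000000400011a008000801000b0080000200006003000610000000000000000000000000000000000000000000
set_option linter.all false
open scoped Cfsg.Agent.FastGrp

/-!
# The trace of a word in the 4371-dimensional model of the Baby Monster (helper84, TAB)

The lanes are split into classes; for a class `M` one run follows the possible supports (labels of constant weight),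
it shows that the matrix has no off-diagonal entry in `M × M`; a second run on the indicator vector of `M` gives
the diagonal entries.

* `dg w K` : the sum of the diagonal entries of `W w` on the lanes of the mask `K`;
* `trF w s L K t = true → s * dg w K = t` (`L` : bit planes of the colouring, `s ≤ 256` : a common denominator);
* `trace_W : trace (W w) = dg w U`, `dg_split`.
-/

set_option autoImplicit false

namespace Cfsg.Agent.TAB.B.Tr

open Cfsg.Agent.Lib.PermNet Cfsg.Agent.Monster.VecEngine Cfsg.Agent.Monster.VecSpace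
  Cfsg.Agent.BabyM.Conc Cfsg.Agent.BabyM.WordsInst Cfsg.Agent.H819.U33 Cfsg.Agent.BMx.Fast

/-! ### Following supports -/

/-- a butterfly on supports -/
noncomputable def orB (S e x : ℕ) : ℕ :=
  Nat.lor x (Nat.lor (Nat.land (Nat.shiftRight x e) (fu S)) (Nat.shiftLeft (Nat.land x (fu S)) e))

/-- run a program on supports -/
noncomputable def orP (l : ℕ) (P : Prog) : ℕ → ℕ → (ℕ → Bool) → Bool :=
  Prog.rec (motive := fun _ => ℕ → ℕ → (ℕ → Bool) → Bool) (fun _ x k => seqB x k)
    (fun N _ ih c x k => ih (Nat.pred c) (netF l N c x) k)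
    (fun _ _ ih c x k => ih (Nat.succ c) x k)
    (fun _ _ ih c x k => ih (Nat.succ c) x k)
    (fun _ ih c x k => ih c x k)
    (fun M d _ ih c x k => ih (Nat.succ c) (orB (spr l c M) (Nat.mul 18 d) x) k) P

/-- the bit `b` is set in the fields of the support of `f` -/
def Sup (b x : ℕ) (f : ℕ → ℚ) : Prop := ∀ i, f i ≠ 0 → (fld 18 x i).testBit b = true

theorem sup_bfly {S M d : ℕ} (h : Sp S M) {b x : ℕ} {f : ℕ → ℚ} (hx : Sup b x f) :
    Sup b (orB S (18 * d) x) (lbfly ℚ M d f) := by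
  intro i hi
  have hv : lbfly ℚ M d f i = if M.testBit i then f i + f (i + d) else
      if d ≤ i ∧ M.testBit (i - d) then f (i - d) - f i else f i := rfl
  show (fld 18 (x ||| (((x >>> (18 * d)) &&& fu S) ||| ((x &&& fu S) <<< (18 * d)))) i).testBit b = true
  rw [fld_or, fld_or, h.and_fu, fld_shiftLeft, h.and_fu, fld_shiftRight, Nat.testBit_or, Nat.testBit_or]
  rw [hv] at hi
  by_cases h0 : f i = 0
  · by_cases h1 : M.testBit i = true
    · rw [if_pos h1, h0, zero_add] at hi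
      rw [if_pos h1, hx _ hi]
      simp
    · rw [if_neg h1] at hi
      by_cases h2 : d ≤ i ∧ M.testBit (i - d) = true
      · rw [if_pos h2, h0, sub_zero] at hi
        rw [if_pos h2.1, if_pos h2.2, hx _ hi]
        simp
      · rw [if_neg h2] at hi
        exact absurd h0 hi
  · rw [hx i h0]
    simp

theorem orP_sound (l : ℕ) (P : Prog) {U : ℕ} {w : Pl} (hs : saf P U w = true) (x c : ℕ) (k : ℕ → Bool)
    (h : orP l P c x k = true) : ∃ y, (∀ b f, Sup b x f → Sup b y (sem ℚ P f)) ∧ k y = true := by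
  induction P generalizing U w x c with
  | nil =>
    have h' : seqB x k = true := h
    rw [seqB_eq] at h'
    exact ⟨x, fun _ _ hf => hf, h'⟩
  | perm N P ih =>
    have hs' : and (le4 U w) (and (N.ok 6144)
      (seqB (N.app U) fun U' => go (mapNet N w) fun w' => saf P U' w')) = true := hs
    rw [Bool.and_eq_true, Bool.and_eq_true, seqB_eq] at hs'
    obtain ⟨-, h1, h2⟩ := hs'
    obtain ⟨y, hy, hk⟩ := ih (go_true h2) _ (Nat.pred c) h
    refine ⟨y, fun b f hf => hy b (lcomp ℚ N.perm f) fun i hi => ?_, hk⟩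
    rw [fld_netF l h1]
    exact hf _ hi
  | neg M P ih =>
    have hs' : and (le4 U w) (and (sml M) (saf P U w)) = true := hs
    rw [Bool.and_eq_true, Bool.and_eq_true] at hs'
    obtain ⟨y, hy, hk⟩ := ih hs'.2.2 _ (Nat.succ c) h
    refine ⟨y, fun b f hf => hy b (lneg ℚ M f) fun i hi => hf i fun h0 => hi ?_, hk⟩
    show (if M.testBit i then - f i else f i) = 0
    rw [h0]
    simp
  | dbl M P ih =>
    have hs' : and (le4 U w) (and (sml M)
      (go (Monster.VecEngine.add w (.cons 0 (.cons M (.sgn 0))) 0) fun w' => saf P U w')) = true := hs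
    rw [Bool.and_eq_true, Bool.and_eq_true] at hs'
    obtain ⟨y, hy, hk⟩ := ih (go_true hs'.2.2) _ (Nat.succ c) h
    refine ⟨y, fun b f hf => hy b (ldbl ℚ M f) fun i hi => hf i fun h0 => hi ?_, hk⟩
    show (if M.testBit i then 2 * f i else f i) = 0
    rw [h0]
    simp
  | half P ih =>
    have hs' : and (le4 U w) (go (Monster.VecEngine.add w (.cons 0 (.sgn U)) 0) fun w' => saf P U w') = true := hs
    rw [Bool.and_eq_true] at hs'
    obtain ⟨y, hy, hk⟩ := ih (go_true hs'.2) _ c h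
    refine ⟨y, fun b f hf => hy b ((2 : ℚ)⁻¹ • f) fun i hi => hf i fun h0 => hi ?_, hk⟩
    rw [Pi.smul_apply, h0, smul_zero]
  | bfly M d P ih =>
    have hs' : and (le4 U w) (and (Net.ok 6144 (.cons M d .nil))
      (and (Nat.beq (Nat.land M (Nat.xor U (Nat.shiftRight U d))) 0)
      (and (eqP (norm (msk U (mapStage M d w))) (norm (msk U w)))
        (go (addLS w 0 (Nat.lor M (Nat.shiftLeft M d))) fun w' => saf P U w')))) = true := hs
    rw [Bool.and_eq_true, Bool.and_eq_true, Bool.and_eq_true, Bool.and_eq_true] at hs'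
    obtain ⟨-, h1, -, -, h4⟩ := hs'
    obtain ⟨-, hL, -⟩ := Net.ok_cons h1
    obtain ⟨y, hy, hk⟩ := ih (go_true h4) _ (Nat.succ c) h
    exact ⟨y, fun b f hf => hy b (lbfly ℚ M d f)
      (sup_bfly (sp_spr l c fun j hj => by have := lt_of_testBit hL hj; omega) hf), hk⟩

/-- a letter on supports -/
noncomputable def stepO (l : Ltr) : ℕ → (ℕ → Bool) → Bool :=
  Ltr.rec (motive := fun _ => ℕ → (ℕ → Bool) → Bool)
    (orP 0 gz 0)
    (orP 1 BabyM.ConcQ.gX0 0)
    (orP 2 BabyM.ConcQ.gX1 0)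
    (orP 3 BabyM.ConcQ.gX2 0)
    (orP 4 BabyM.ConcQ.gX3 0)
    (orP 5 BabyM.ConcQ.gX4 0)
    (orP 6 BabyM.ConcQ.gX5 0)
    (orP 7 BabyM.ConcQ.gX6 0)
    (orP 8 BabyM.ConcQ.gX7 0)
    (orP 9 BabyM.ConcQ.gX8 0)
    (orP 10 BabyM.ConcQ.gX9 0)
    (orP 11 BabyM.ConcQ.gX10 0)
    (orP 12 BabyM.ConcQ.gZ0 0)
    (orP 13 BabyM.ConcQ.gZ1 0)
    (orP 14 BabyM.ConcQ.gZ2 0)
    (orP 15 BabyM.ConcQ.gZ3 0)
    (orP 16 BabyM.ConcQ.gZ4 0)
    (orP 17 BabyM.ConcQ.gZ5 0)
    (orP 18 BabyM.ConcQ.gZ6 0)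
    (orP 19 BabyM.ConcQ.gZ7 0)
    (orP 20 BabyM.ConcQ.gZ8 0)
    (orP 21 BabyM.ConcQ.gZ9 0)
    (orP 22 BabyM.ConcQ.gZ10 0)
    (orP 23 BabyM.ConcY.gy1 0)
    (orP 24 BabyM.ConcY.gy2 0)
    (orP 25 BabyM.ConcY.gy3 0)
    (orP 26 BabyM.ConcY.gy4 0)
    (orP 27 BabyM.ConcY.gy5 0)
    (orP 28 BabyM.ConcY.gy6 0)
    (orP 29 BabyM.ConcY.gy7 0)
    (orP 30 BabyM.ConcY.gy8 0)
    (orP 31 BabyM.ConcY.gy9 0)
    (orP 32 BabyM.ConcY.gy10 0)
    (orP 33 BabyM.ConcP.gp 0)
    (orP 34 BabyM.ConcP.gh 0)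
    (orP 35 BabyM.ConcT.gxi 0)
    (orP 36 BabyM.ConcPP.gp2 0)
    (orP 37 BabyM.ConcPP.gp3 0)
    (orP 38 BabyM.ConcPP.gp4 0)
    (orP 39 BabyM.ConcPP.gp5 0)
    (orP 40 BabyM.ConcPP.gp6 0)
    (orP 41 BabyM.ConcPP.gp7 0)
    (orP 42 BabyM.ConcPP.gp8 0)
    (orP 43 BabyM.ConcPP.gp9 0)
    (orP 44 BabyM.ConcPP.gp10 0)
    (orP 45 BabyM.ConcP.ghi 0)
    (orP 46 BabyM.ConcT.gxii 0)
    (orP 47 BabyM.ConcT.gtau 0)
    (orP 48 BabyM.ConcT.gtaui 0) l

attribute [local irreducible] orP in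
theorem stepO_eq (l : Ltr) : ∃ n, stepO l = orP n l.prog 0 := by
  cases l <;> exact ⟨_, rfl⟩

/-- a word on supports -/
noncomputable def orW (w : List Ltr) : ℕ → (ℕ → Bool) → Bool :=
  List.rec (motive := fun _ => ℕ → (ℕ → Bool) → Bool) (fun x k => k x)
    (fun l _ ih x k => stepO l x fun y => ih y k) w

theorem ext_W_cons (l : Ltr) (w : List Ltr) (f : V) : W (l :: w) f = W w (E l f) := by
  rw [W_cons, LinearEquiv.mul_apply]

theorem sem_E (l : Ltr) (f : V) : sem ℚ l.prog (ext ℚ U f) = ext ℚ U (E l f) := by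
  rw [E_apply, ← sem_ext ℚ (good_prog l).pres]

theorem orW_sound (w : List Ltr) (x : ℕ) (k : ℕ → Bool) (h : orW w x k = true) :
    ∃ y, (∀ b (f : V), Sup b x (ext ℚ U f) → Sup b y (ext ℚ U (W w f))) ∧ k y = true := by
  induction w generalizing x with
  | nil => exact ⟨x, fun _ _ hf => hf, h⟩
  | cons l w ih =>
    have h' : stepO l x (fun y => orW w y k) = true := h
    obtain ⟨n, hn⟩ := stepO_eq l
    rw [hn] at h'
    obtain ⟨y, hy, hk⟩ := orP_sound n l.prog (saf_prog l) x 0 _ h'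
    obtain ⟨z, hz, hk'⟩ := ih y hk
    refine ⟨z, fun b f hf => ?_, hk'⟩
    rw [ext_W_cons]
    exact hz b _ (by rw [← sem_E]; exact hy b _ hf)

/-- a word on a short vector -/
theorem runW_vec (w : List Ltr) {f : V} (hf : dotW ℚ U wt f f < 1073741824) {x : ℕ} (hx : Rep x (ext ℚ U f))
    (k : ℕ → Bool) (h : runW w x k = true) : ∃ y, Rep y (ext ℚ U (W w f)) ∧ k y = true := by
  induction w generalizing x f with
  | nil => exact ⟨x, hx, h⟩
  | cons l w ih =>
    have h' : step l x (fun y => runW w y k) = true := h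
    obtain ⟨n, hn⟩ := step_eq l
    rw [hn] at h'
    have hS : Short U wt (ext ℚ U f) := ⟨ind_ext ℚ U _, by rw [wform_eq, res_ext]; exact hf⟩
    obtain ⟨y, hy, hk⟩ := runP_sound n l.prog (saf_prog l) hS hx 0 _ h'
    rw [sem_E] at hy
    rw [ext_W_cons]
    exact ih (lt_of_eq_of_lt (dotW_semE ℚ two_ne_zero (good_prog l) f f) hf) hy hk

/-! ### The labels -/

/-- the twenty 6-bit numbers of weight 3, at distance `W` -/
noncomputable def trip (W : ℕ) : ℕ :=
  List.rec (motive := fun _ => ℕ) 0 (fun a _ ih => Nat.add a (Nat.shiftLeft ih W))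
    [7, 11, 13, 14, 19, 21, 22, 25, 26, 28, 35, 37, 38, 41, 42, 44, 49, 50, 52, 56]

/-- the labels: increasing numbers of weight 9 -/
noncomputable def pat : ℕ :=
  Nat.mod (Nat.add (Nat.mul (trip 18) (ones 360 400))
    (Nat.add (Nat.mul (Nat.mul 64 (ones 18 20)) (Nat.mul (trip 360) (ones 7200 20)))
      (Nat.mul (Nat.mul 4096 (ones 18 400)) (trip 7200)))) (Nat.pow 2 110592)

/-- the number of the bits below `n` -/
noncomputable def pop (a n : ℕ) : ℕ :=
  Nat.rec (motive := fun _ => ℕ) 0 (fun j ih => Nat.add ih (Nat.mod (Nat.shiftRight a j) 2)) n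

theorem pop_eq (a n : ℕ) : pop a n = ((Finset.range n).filter fun j => a.testBit j = true).card := by
  induction n with
  | zero => rfl
  | succ n ih =>
    show pop a n + (a >>> n) % 2 = _
    rw [Finset.range_add_one, Finset.filter_insert, ih, Nat.shiftRight_eq_div_pow]
    by_cases h : a.testBit n = true
    · rw [if_pos h, Finset.card_insert_of_notMem (by simp), Nat.testBit_eq_decide_div_mod_eq] at *
      have := of_decide_eq_true h
      omega
    · rw [if_neg h]
      rw [Nat.testBit_eq_decide_div_mod_eq] at h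
      have : ¬ a / 2 ^ n % 2 = 1 := fun h1 => h (decide_eq_true h1)
      omega

theorem pat_chk : allB (fun i => seqB (fld 18 pat i) fun a => and (Nat.beq (pop a 18) 9)
    (or (Nat.beq i 6143) (Nat.blt a (fld 18 pat (Nat.succ i))))) 6144 = true := by decide +kernel

attribute [irreducible] pat

theorem pat_pop {i : ℕ} (hi : i < 6144) :
    ((Finset.range 18).filter fun j => (fld 18 pat i).testBit j = true).card = 9 := by
  have h := allB_sound pat_chk i hi
  rw [seqB_eq, Bool.and_eq_true] at h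
  rw [← pop_eq]
  exact Nat.eq_of_beq_eq_true h.1

theorem pat_lt {i j : ℕ} (hij : i < j) (hj : j < 6144) : fld 18 pat i < fld 18 pat j := by
  induction j with
  | zero => omega
  | succ j ih =>
    have h := allB_sound pat_chk j (by omega)
    rw [seqB_eq, Bool.and_eq_true, Bool.or_eq_true] at h
    have h1 : fld 18 pat j < fld 18 pat (j + 1) := by
      rcases h.2 with h2 | h2
      · have := Nat.eq_of_beq_eq_true h2
        omega
      · exact Nat.blt_eq.mp h2
    rcases Nat.lt_succ_iff_lt_or_eq.1 hij with h2 | rfl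
    · exact (ih h2 (by omega)).trans h1
    · exact h1

/-- the labels form an antichain -/
theorem pat_anti {i j : ℕ} (hi : i < 6144) (hj : j < 6144)
    (h : ∀ b, (fld 18 pat j).testBit b = true → (fld 18 pat i).testBit b = true) : i = j := by
  have h1 : ((Finset.range 18).filter fun b => (fld 18 pat j).testBit b = true) =
      (Finset.range 18).filter fun b => (fld 18 pat i).testBit b = true :=
    Finset.eq_of_subset_of_card_le (fun b hb => by
      rw [Finset.mem_filter] at hb ⊢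
      exact ⟨hb.1, h b hb.2⟩) (by rw [pat_pop hi, pat_pop hj])
  have h2 : fld 18 pat i = fld 18 pat j := by
    apply Nat.eq_of_testBit_eq
    intro b
    by_cases hb : b < 18
    · have h3 := Finset.ext_iff.1 h1 b
      simp only [Finset.mem_filter, Finset.mem_range, hb, true_and] at h3
      exact Bool.eq_iff_iff.2 h3.symm
    · rw [testBit_fld, testBit_fld]
      simp [hb]
  rcases Nat.lt_trichotomy i j with h3 | h3 | h3
  · exact absurd h2 (pat_lt h3 hj).ne
  · exact h3
  · exact absurd h2 (pat_lt h3 hi).ne'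

/-! ### One class -/

/-- the diagonal entry -/
noncomputable def dd (w : List Ltr) (i : Lane U) : ℚ := W w (Pi.single i 1) i

/-- the fields on `M` are replaced by the diagonal entries -/
def Upd (w : List Ltr) (s M a a' : ℕ) : Prop :=
  (∀ i : Lane U, M.testBit i.1 = true → (fld 18 a' i.1 : ℚ) = s * dd w i + 131072) ∧
    ∀ i, ¬ M.testBit i = true → fld 18 a' i = fld 18 a i

/-- one class -/
noncomputable def cls (w : List Ltr) (s M a : ℕ) (k : ℕ → Bool) : Bool :=
  seqB (spr 49 0 M) fun S => seqB (fu S) fun F =>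
    orW w (Nat.land pat F) fun y => and (Nat.beq (Nat.land (Nat.land y F) pat) (Nat.land y F))
      (runW w (Nat.add (bi one) (Nat.mul S s)) fun v => seqB (Nat.xor a (Nat.land (Nat.xor a v) F)) k)

theorem lane_lt (i : Lane U) : i.1 < 6144 := sml_sound U_sml i.1 i.2

theorem cls_sound {w : List Ltr} {s M a : ℕ} (hs : s ≤ 256) (hM : ∀ i, M.testBit i = true → U.testBit i = true)
    (k : ℕ → Bool) (h : cls w s M a k = true) : ∃ a', Upd w s M a a' ∧ k a' = true := by
  classical
  have hM' : ∀ i, M.testBit i = true → i < 6144 := fun i hi => sml_sound U_sml i (hM i hi)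
  have hS : Sp (spr 49 0 M) M := sp_spr 49 0 hM'
  unfold cls at h
  rw [seqB_eq, seqB_eq] at h
  generalize spr 49 0 M = S at h hS
  obtain ⟨y, hy, hk⟩ := orW_sound w _ _ h
  rw [Bool.and_eq_true] at hk
  have h1 : (y &&& fu S) &&& pat = y &&& fu S := Nat.eq_of_beq_eq_true hk.1
  have hoff : ∀ i j : Lane U, M.testBit i.1 = true → M.testBit j.1 = true → j ≠ i →
      W w (Pi.single j 1) i = 0 := by
    intro i j hi hj hij
    by_contra h0
    refine hij (Subtype.ext (pat_anti (lane_lt i) (lane_lt j) fun b hb => ?_).symm)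
    have h2 : Sup b (pat &&& fu S) (ext ℚ U (Pi.single j (1 : ℚ) : V)) := by
      intro t ht
      by_cases h3 : U.testBit t = true
      · rw [ext_apply_of_true ℚ h3] at ht
        have h4 : (⟨t, h3⟩ : Lane U) = j := by
          by_contra h5
          exact ht (Pi.single_eq_of_ne h5 _)
        have h5 : t = j.1 := congrArg Subtype.val h4
        rw [h5, hS.and_fu, if_pos hj]
        exact hb
      · exact absurd (ext_apply_of_not ℚ h3 _) ht
    have h3 := hy b _ h2 i.1 (by rw [ext_coe]; exact h0)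
    have h4 := congrArg (fun z => (fld 18 z i.1).testBit b) h1
    simp only [fld_and, Nat.testBit_and] at h4
    have h5 := congrArg (fun z => Nat.testBit z b) (hS.and_fu y i.1)
    simp only [fld_and, Nat.testBit_and, if_pos hi, h3, Bool.true_and] at h5
    rw [h3, h5] at h4
    simpa using h4
  let f : V := fun j => if M.testBit j.1 then (s : ℚ) else 0
  have hf : dotW ℚ U wt f f < 1073741824 := by
    have h2 : ∀ i : Lane U, (2 : ℚ) ^ (-(val wt i.1)) * (f i * f i) ≤ 131072 := by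
      intro i
      have h5 : -(val wt i.1) ≤ 1 := neg_val_sgn_le _ i.1
      have h6 : (2 : ℚ) ^ (-(val wt i.1)) ≤ 2 := (zpow_le_zpow_right₀ (by norm_num) h5).trans (by norm_num)
      have h7 : (s : ℚ) ≤ 256 := by exact_mod_cast hs
      have h8 : (0 : ℚ) ≤ s := Nat.cast_nonneg s
      have h9 : f i * f i ≤ 65536 := by
        show (if M.testBit i.1 then (s : ℚ) else 0) * (if M.testBit i.1 then (s : ℚ) else 0) ≤ _
        split_ifs
        · nlinarith
        · norm_num
      have h10 := mul_self_nonneg (f i)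
      nlinarith
    have h3 := Finset.sum_le_card_nsmul Finset.univ _ _ fun i _ => h2 i
    rw [Finset.card_univ, card_lane] at h3
    refine lt_of_le_of_lt h3 ?_
    norm_num
  have hb : ∀ i, fld 18 (bi one) i = if i < 6144 then 131072 else 0 :=
    fld_mul_of one 131072 (by norm_num) fld_one
  have hx : Rep (Nat.add (bi one) (Nat.mul S s)) (ext ℚ U f) := by
    intro i
    show ((fld 18 (bi one + S * s) i : ℕ) : ℚ) = _
    rw [fld_add h18 _ _ (fun j => by
      rw [hb, hS.mul (by omega)]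
      split_ifs <;> omega), hb, hS.mul (by omega)]
    by_cases h2 : M.testBit i = true
    · rw [if_pos (hM' i h2), if_pos (hM' i h2), if_pos h2, ext_apply_of_true ℚ (hM i h2)]
      show _ = (if M.testBit i then (s : ℚ) else 0) + _
      rw [if_pos h2]
      push_cast
      ring
    · have h3 : ext ℚ U f i = 0 := by
        by_cases h4 : U.testBit i = true
        · rw [ext_apply_of_true ℚ h4]
          exact if_neg h2
        · exact ext_apply_of_not ℚ h4 _
      rw [if_neg h2, h3]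
      split_ifs <;> simp
  obtain ⟨v, hv, hk'⟩ := runW_vec w hf hx _ hk.2
  rw [seqB_eq] at hk'
  have hn : ∀ i, fld 18 (Nat.xor a (Nat.land (Nat.xor a v) (fu S))) i =
      if M.testBit i then fld 18 v i else fld 18 a i := by
    intro i
    show fld 18 (a ^^^ ((a ^^^ v) &&& fu S)) i = _
    rw [fld_xor, hS.and_fu, fld_xor]
    split_ifs
    · rw [← Nat.xor_assoc, Nat.xor_self, Nat.zero_xor]
    · rw [Nat.xor_zero]
  refine ⟨_, ⟨fun i hi => ?_, fun i hi => by rw [hn, if_neg hi]⟩, hk'⟩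
  rw [hn, if_pos hi, hv i.1, if_pos (lane_lt i), ext_coe]
  congr 1
  have h2 : f = ∑ j : Lane U, f j • (Pi.single j (1 : ℚ) : V) := by
    funext t
    rw [Finset.sum_apply, Finset.sum_eq_single t (fun j _ hj => by
      rw [Pi.smul_apply, Pi.single_eq_of_ne hj.symm, smul_zero]) (fun h3 => absurd (Finset.mem_univ t) h3)]
    simp
  rw [h2, map_sum, Finset.sum_apply, Finset.sum_eq_single i (fun j _ hj => by
    rw [map_smul, Pi.smul_apply]
    by_cases h3 : M.testBit j.1 = true
    · rw [hoff i j hi h3 hj, smul_zero]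
    · rw [show f j = 0 from if_neg h3, zero_smul]) (fun h3 => absurd (Finset.mem_univ i) h3), map_smul,
    Pi.smul_apply, show f i = s from if_pos hi]
  rfl

/-! ### All the classes -/

/-- split along the planes -/
noncomputable def goT (w : List Ltr) (s : ℕ) (L : List ℕ) : ℕ → ℕ → (ℕ → Bool) → Bool :=
  List.rec (motive := fun _ => ℕ → ℕ → (ℕ → Bool) → Bool)
    (fun M a k => Bool.rec (cls w s M a k) (k a) (Nat.beq M 0))
    (fun p _ ih M a k => Bool.rec
      (ih (Nat.land M p) a fun a' => ih (Nat.xor M (Nat.land M p)) a' k) (k a) (Nat.beq M 0)) L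

theorem upd_zero (w : List Ltr) (s a : ℕ) : Upd w s 0 a a :=
  ⟨fun i hi => absurd hi (by simp), fun _ _ => rfl⟩

theorem testBit_rest (M p i : ℕ) : (M ^^^ (M &&& p)).testBit i = (M.testBit i && !p.testBit i) := by
  rw [Nat.testBit_xor, Nat.testBit_and]
  cases M.testBit i <;> cases p.testBit i <;> rfl

theorem goT_sound {w : List Ltr} {s : ℕ} (hs : s ≤ 256) (L : List ℕ) {M a : ℕ}
    (hM : ∀ i, M.testBit i = true → U.testBit i = true) (k : ℕ → Bool) (h : goT w s L M a k = true) :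
    ∃ a', Upd w s M a a' ∧ k a' = true := by
  induction L generalizing M a k with
  | nil =>
    have h' : (Bool.rec (cls w s M a k) (k a) (Nat.beq M 0) : Bool) = true := h
    cases h0 : Nat.beq M 0 with
    | false => rw [h0] at h'; exact cls_sound hs hM k h'
    | true =>
      rw [h0] at h'
      rw [Nat.eq_of_beq_eq_true h0]
      exact ⟨a, upd_zero w s a, h'⟩
  | cons p L ih =>
    have h' : (Bool.rec (goT w s L (M &&& p) a fun a' => goT w s L (M ^^^ (M &&& p)) a' k) (k a)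
      (Nat.beq M 0) : Bool) = true := h
    cases h0 : Nat.beq M 0 with
    | true =>
      rw [h0] at h'
      rw [Nat.eq_of_beq_eq_true h0]
      exact ⟨a, upd_zero w s a, h'⟩
    | false =>
      rw [h0] at h'
      obtain ⟨a1, h1, hk⟩ := ih (fun i hi => hM i (by
        rw [Nat.testBit_and, Bool.and_eq_true] at hi; exact hi.1)) _ h'
      obtain ⟨a2, h2, hk'⟩ := ih (fun i hi => hM i (by
        rw [testBit_rest, Bool.and_eq_true] at hi; exact hi.1)) _ hk
      refine ⟨a2, ⟨fun i hi => ?_, fun i hi => ?_⟩, hk'⟩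
      · by_cases hp : p.testBit i.1 = true
        · rw [h2.2 i.1 (by rw [testBit_rest, hp]; simp)]
          exact h1.1 i (by rw [Nat.testBit_and, hi, hp]; rfl)
        · exact h2.1 i (by rw [testBit_rest, hi]; simpa using hp)
      · rw [h2.2 i (by rw [testBit_rest]; simp [hi]), h1.2 i (by rw [Nat.testBit_and]; simp [hi])]

/-- the sum of the first `2 ^ n` fields -/
noncomputable def sumF (n : ℕ) : ℕ → ℕ :=
  Nat.rec (motive := fun _ => ℕ → ℕ) (fun x => Nat.mod x 262144)
    (fun k ih x => Nat.add (ih (Nat.mod x (Nat.pow 2 (Nat.mul 18 (Nat.pow 2 k)))))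
      (ih (Nat.shiftRight x (Nat.mul 18 (Nat.pow 2 k))))) n

theorem fld_mod (x m i : ℕ) (hi : i < m) : fld 18 (x % 2 ^ (18 * m)) i = fld 18 x i := by
  apply Nat.eq_of_testBit_eq
  intro j
  rw [testBit_fld, testBit_fld, Nat.testBit_mod_two_pow]
  by_cases hj : j < 18
  · have : 18 * i + j < 18 * m := by omega
    simp [this]
  · simp [hj]

theorem sumF_eq (n x : ℕ) : sumF n x = ∑ i ∈ Finset.range (2 ^ n), fld 18 x i := by
  induction n generalizing x with
  | zero =>
    show x % 262144 = _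
    simp [fld]
  | succ n ih =>
    show sumF n (x % 2 ^ (18 * 2 ^ n)) + sumF n (x >>> (18 * 2 ^ n)) = _
    rw [ih, ih, pow_succ, Nat.mul_two, Finset.sum_range_add]
    congr 1
    · exact Finset.sum_congr rfl fun i hi => fld_mod x _ i (Finset.mem_range.1 hi)
    · exact Finset.sum_congr rfl fun i _ => by rw [fld_shiftRight, Nat.add_comm]

/-- the part of the trace on the lanes of `K` -/
noncomputable def dg (w : List Ltr) (K : ℕ) : ℚ := ∑ i : Lane U, if K.testBit i.1 then dd w i else 0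

/-- **the trace is the sum of the diagonal entries** -/
theorem trace_W (w : List Ltr) : LinearMap.trace ℚ V (W w : V →ₗ[ℚ] V) = dg w U := by
  rw [LinearMap.trace_eq_matrix_trace ℚ (Pi.basisFun ℚ (Lane U)), Matrix.trace]
  refine Finset.sum_congr rfl fun i _ => ?_
  rw [if_pos i.2, Matrix.diag_apply, LinearMap.toMatrix_apply, Pi.basisFun_apply, Pi.basisFun_repr]
  rfl

/-- **the check** : `s * dg w K = t` -/
noncomputable def trF (w : List Ltr) (s : ℕ) (L : List ℕ) (K : ℕ) (t : ℤ) : Bool :=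
  and (Nat.ble s 256) (and (Nat.beq (Nat.land K U) K)
    (goT w s L K (bi one) fun a => decide ((sumF 13 a : ℤ) = 805306368 + t)))

theorem dg_of_trF {w : List Ltr} {s : ℕ} {L : List ℕ} {K : ℕ} {t : ℤ} (h : trF w s L K t = true) :
    s * dg w K = t := by
  unfold trF at h
  rw [Bool.and_eq_true, Bool.and_eq_true] at h
  have h1 : K &&& U = K := Nat.eq_of_beq_eq_true h.2.1
  have hK : ∀ i, K.testBit i = true → U.testBit i = true := fun i hi => by
    rw [← h1, Nat.testBit_and, Bool.and_eq_true] at hi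
    exact hi.2
  obtain ⟨a, ha, hk⟩ := goT_sound (Nat.ble_eq.mp h.1) L hK _ h.2.2
  have h2 : ((sumF 13 a : ℤ) : ℚ) = ((805306368 + t : ℤ) : ℚ) := by rw [of_decide_eq_true hk]
  have hb : ∀ i, fld 18 (bi one) i = if i < 6144 then 131072 else 0 :=
    fld_mul_of one 131072 (by norm_num) fld_one
  have h3 : ∀ i, (fld 18 a i : ℚ) = (if U.testBit i then (if K.testBit i then s * ext ℚ U (dd w) i else 0) else 0)
      + fld 18 (bi one) i := by
    intro i
    by_cases hi : K.testBit i = true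
    · have h4 := ha.1 ⟨i, hK i hi⟩ hi
      rw [if_pos (hK i hi), if_pos hi, ext_apply_of_true ℚ (hK i hi), hb, if_pos (sml_sound U_sml i (hK i hi))]
      exact_mod_cast h4
    · rw [ha.2 i hi, if_neg hi, ite_self, zero_add]
  have h4 : ∑ i ∈ Finset.range (2 ^ 13), fld 18 (bi one) i = 805306368 := by
    rw [← sumF_eq]
    decide +kernel
  have h5 : s * dg w K = ∑ i ∈ Finset.range (2 ^ 13),
      if U.testBit i then (if K.testBit i then s * ext ℚ U (dd w) i else 0) else 0 := by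
    rw [← sum_lane U_lt fun i => if K.testBit i then s * ext ℚ U (dd w) i else 0, dg, Finset.mul_sum]
    refine Finset.sum_congr rfl fun i _ => ?_
    rw [ext_coe]
    split_ifs <;> simp
  rw [Int.cast_natCast, sumF_eq, Nat.cast_sum, Finset.sum_congr rfl fun i _ => h3 i, Finset.sum_add_distrib,
    ← h5, ← Nat.cast_sum, h4] at h2
  push_cast at h2
  linarith

end Cfsg.Agent.TAB.B.Tr

private theorem dce_dd23c43b8ae2 : _root_.True := by
  try have : _root_.True := by simp only [_root_.Cfsg.Agent.TAB.B.Tr.dg.eq_1]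
  exact _root_.True.intro
end

-- part: TAB/B/Ch
section
set_option linter.all false
open scoped Cfsg.Agent.FastGrp

/-!
# The character of degree 4371 on words (helper84, TAB)

`chB x` : the trace of `x` on the space of dimension 4371; `keyT` : the key given by `chB`;
`chB_of`, `add2` : the value on a word from kernel checks `trF`.
-/

set_option autoImplicit false

namespace Cfsg.Agent.TAB.B.Tr

open Cfsg Cfsg.Agent.BabyM.Conc Cfsg.Agent.H819.U33 Cfsg.Agent.BMx.Fast Cfsg.Agent.TAB.Eng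

/-- the trace on the space of dimension 4371 -/
noncomputable def chB (x : G) : ℚ := LinearMap.trace ℚ V ((x : V ≃ₗ[ℚ] V) : V →ₗ[ℚ] V)

theorem finB : Finite G := H863.BRep.finG

theorem isChar : IsCharacter G fun x => ((chB x : ℚ) : ℂ) := by
  obtain ⟨ρ, h1, -⟩ := H723.Pair.exists_complex card_lane H723.Pair.BChar.nat
  exact ⟨4371, ρ, funext h1⟩

theorem chB_conj (x h : G) : chB (h * x * h⁻¹) = chB x := by
  have h1 := Characters.Core.isCharacter_isClassFunction isChar x h
  exact_mod_cast h1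

theorem chB_conj' (x h : G) : chB (h⁻¹ * x * h) = chB x := by
  have h1 := chB_conj x h⁻¹
  rwa [inv_inv] at h1

theorem chB_inv (x : G) : chB x⁻¹ = chB x := by
  have := finB
  have h1 := Characters.Core.isCharacter_apply_inv isChar x
  simp only [map_ratCast] at h1
  exact_mod_cast h1

theorem chB_one : chB 1 = 4371 := by
  show LinearMap.trace ℚ V 1 = _
  rw [LinearMap.trace_one, Module.finrank_fintype_fun_eq_card, card_lane]
  norm_num

theorem chB_g (w : List Ltr) : chB (g w) = dg w U := by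
  rw [← chB_inv, ← trace_W]
  unfold g
  rw [inv_inv]
  rfl

/-- **the value on a word** -/
theorem chB_of {w : List Ltr} {s : ℕ} {t c : ℤ} (h : s * dg w U = t) (hs : s ≠ 0) (ht : t = s * c) :
    chB (g w) = c := by
  rw [chB_g]
  have h1 : (s : ℚ) ≠ 0 := by exact_mod_cast hs
  apply mul_left_cancel₀ h1
  rw [h, ht]
  push_cast
  rfl

/-- the value on a conjugate word : `c⁻¹ v c = w` -/
theorem chB_of_cj {v w c : List Ltr} {a : ℚ} (h : eqF (cj c v) w = true) (hw : chB (g w) = a) : chB (g v) = a := by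
  rw [← hw, ← eq_of_eqF h, g_cj, chB_conj']

end Cfsg.Agent.TAB.B.Tr
end

-- part: TAB/B/C2/Code
section
prune_inst 0x404001104000000004008221000c030e00019000230800e10408000cc0ab0000400720b410130008ca228458384000000000f000000000000084004119008004890002a008a000250006c0f004610000000000000000000000000000000004000000000
set_option linter.all false
open scoped Cfsg.Agent.FastGrp

/-!
# Automorphisms of `2^(1+22)` on codes (helper48)

`Sn α x s` : `α x = ± x`; `Ind α L` : the matrix on the codes; `Bs` : a basis of the fixed space; `gauss` : the Gauss sum.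
-/

set_option autoImplicit false

namespace Cfsg.Agent.TAB.B.C2

open Cfsg.Agent.Monster.PauliBasic Cfsg.Agent.Monster.PauliClif Cfsg.Agent.Monster.PauliRep
open Cfsg.Agent.Monster.PauliBits (bit bit_xor bit_and bit_shiftRight bit_zero bit_eq_zero_of_lt bit_one dec enc
  bit_eq_one_iff par32 bit_par32 sum_range_32 vec idx vec_idx idx_lt)
open Cfsg.Agent.H633.Ore (linL linL_nil linL_cons linL_zero linL_xor linL_map linL_lt idL linL_idL force force_eq)
open Cfsg.Agent.H155.TC.Pau (W tr)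
open Cfsg.Agent.TAB.C2B (Cl ch mkP)
open Finset Matrix

/-! ### bits -/

theorem bit_inj {a b k l : ℕ} (h : bit a k = bit b l) : a.testBit k = b.testBit l := by
  unfold bit at h
  cases ha : a.testBit k <;> cases hb : b.testBit l <;> rw [ha, hb] at h <;> first | rfl | exact absurd h (by decide)

theorem eq_of_bit {a b m : ℕ} (ha : a < 2 ^ m) (hb : b < 2 ^ m) (h : ∀ k < m, bit a k = bit b k) : a = b := by
  apply Nat.eq_of_testBit_eq
  intro i
  rcases Nat.lt_or_ge i m with hi | hi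
  · exact bit_inj (h i hi)
  · rw [Nat.testBit_eq_false_of_lt (lt_of_lt_of_le ha (Nat.pow_le_pow_right (by norm_num) hi)),
      Nat.testBit_eq_false_of_lt (lt_of_lt_of_le hb (Nat.pow_le_pow_right (by norm_num) hi))]

theorem bit_ge {a m k : ℕ} (ha : a < 2 ^ m) (h : m ≤ k) : bit a k = 0 :=
  bit_eq_zero_of_lt (lt_of_lt_of_le ha (Nat.pow_le_pow_right (by norm_num) h))

theorem bit_and_one (v c i : ℕ) : bit ((v &&& 1) * c) i = bit v 0 * bit c i := by
  rw [Nat.and_one_is_mod]
  unfold bit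
  rw [Nat.testBit_zero]
  rcases Nat.mod_two_eq_zero_or_one v with h | h <;> rw [h] <;> simp

theorem bit_linL : ∀ (L : List ℕ) (v i : ℕ),
    bit (linL L v) i = ∑ k ∈ range L.length, bit v k * bit (L.getD k 0) i
  | [], v, i => by simp [linL_nil]
  | c :: L, v, i => by
    rw [linL_cons, bit_xor, bit_linL L, List.length_cons, sum_range_succ', add_comm, bit_and_one]
    congr 1
    exact sum_congr rfl fun k _ => by rw [bit_shiftRight, add_comm 1 k, List.getD_cons_succ]

theorem bit_two_pow (j k : ℕ) : bit (2 ^ j) k = if j = k then 1 else 0 := by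
  unfold bit
  rw [Nat.testBit_two_pow]
  simp

theorem linL_two_pow (L : List ℕ) (k : ℕ) : linL L (2 ^ k) = L.getD k 0 := by
  apply Nat.eq_of_testBit_eq
  intro i
  apply bit_inj
  rw [bit_linL]
  rcases Nat.lt_or_ge k L.length with h | h
  · rw [sum_eq_single k (fun j _ hj => by rw [bit_two_pow, if_neg (Ne.symm hj), zero_mul])
      (fun h' => absurd (mem_range.2 h) h'), bit_two_pow, if_pos rfl, one_mul]
  · rw [List.getD_eq_default _ _ h, bit_zero]
    exact sum_eq_zero fun j hj => by rw [bit_two_pow, if_neg (by have := mem_range.1 hj; omega), zero_mul]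

theorem linL_even (x : ℕ) (B : List ℕ) (u : ℕ) : linL (x :: B) (2 * u) = linL B u := by
  rw [linL_cons, Nat.and_one_is_mod, Nat.mul_mod_right, Nat.zero_mul, Nat.zero_xor, Nat.shiftRight_eq_div_pow, pow_one,
    Nat.mul_div_cancel_left _ (by norm_num)]

theorem linL_odd (x : ℕ) (B : List ℕ) (u : ℕ) : linL (x :: B) (2 * u + 1) = x ^^^ linL B u := by
  rw [linL_cons, Nat.and_one_is_mod, show (2 * u + 1) % 2 = 1 by omega, Nat.one_mul, Nat.shiftRight_eq_div_pow, pow_one,
    show (2 * u + 1) / 2 = u by omega]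

theorem linL_zip : ∀ (A B : List ℕ), A.length = B.length → ∀ v, linL (List.zipWith Nat.xor A B) v = linL A v ^^^ linL B v
  | [], [], _, v => by simp [linL_nil]
  | a :: A, b :: B, h, v => by
    rw [List.zipWith_cons_cons, linL_cons, linL_cons, linL_cons, linL_zip A B (by simpa using h)]
    have h1 : (v &&& 1) * Nat.xor a b = ((v &&& 1) * a) ^^^ ((v &&& 1) * b) := by
      rcases H633.Ore.and_one_cases v with h | h <;> rw [h] <;> simp
    rw [h1]
    simp only [Nat.xor_assoc, Nat.xor_left_comm]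
  | [], _ :: _, h, _ => by simp at h
  | _ :: _, [], h, _ => by simp at h

/-- the number with the bits `f a`, `a` in the list -/
noncomputable def colf (f : ℕ → ℕ) (M : List ℕ) : ℕ :=
  List.rec 0 (fun a _ ih => Nat.add (Nat.land (f a) 1) (Nat.mul 2 ih)) M

theorem colf_cons (f : ℕ → ℕ) (a : ℕ) (M : List ℕ) : colf f (a :: M) = (f a &&& 1) + 2 * colf f M := rfl

theorem colf_lt (f : ℕ → ℕ) : ∀ M : List ℕ, colf f M < 2 ^ M.length
  | [] => Nat.one_pos
  | a :: M => by
    have h := colf_lt f M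
    rw [colf_cons, Nat.and_one_is_mod, List.length_cons, pow_succ]
    omega

theorem bit_colf (f : ℕ → ℕ) : ∀ (M : List ℕ) (k : ℕ), k < M.length → bit (colf f M) k = bit (f (M.getD k 0)) 0
  | [], _, h => by simp at h
  | a :: M, 0, _ => by
    unfold bit
    rw [colf_cons, Nat.testBit_zero, Nat.testBit_zero, Nat.and_one_is_mod, List.getD_cons_zero,
      show (f a % 2 + 2 * colf f M) % 2 = f a % 2 by omega]
  | a :: M, k + 1, h => by
    rw [List.getD_cons_succ, ← bit_colf f M k (by simpa using h)]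
    unfold bit
    rw [colf_cons, Nat.testBit_succ, Nat.and_one_is_mod, show (f a % 2 + 2 * colf f M) / 2 = colf f M by omega]

/-- the column of a matrix -/
noncomputable def col (M : List ℕ) (b : ℕ) : ℕ := colf (fun a => Nat.shiftRight a b) M

theorem bit_col (M : List ℕ) (b k : ℕ) : bit (col M b) k = bit (M.getD k 0) b := by
  rcases Nat.lt_or_ge k M.length with h | h
  · unfold col
    rw [bit_colf _ _ _ h]
    exact bit_shiftRight _ _ _
  · rw [List.getD_eq_default _ _ h, bit_zero]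
    exact bit_ge (colf_lt _ _) h

/-- scalar product -/
def dt (a b : ℕ) : ZMod 2 := ∑ k ∈ range 22, bit a k * bit b k

theorem dt_comm (a b : ℕ) : dt a b = dt b a := sum_congr rfl fun _ _ => mul_comm _ _

theorem dt_of_lt {m e : ℕ} (hm : m ≤ 22) (he : e < 2 ^ m) (u : ℕ) : dt e u = ∑ k ∈ range m, bit e k * bit u k := by
  unfold dt
  rw [← sum_subset (range_subset_range.2 hm)]
  intro k _ hk
  rw [bit_ge he (by simpa using hk), zero_mul]

theorem bit_linL_trn {n : ℕ} (hn : n ≤ 22) (M : List ℕ) {e : ℕ} (he : e < 2 ^ n) (k : ℕ) :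
    bit (linL ((List.range n).map (col M)) e) k = dt e (M.getD k 0) := by
  rw [bit_linL, dt_of_lt hn he, List.length_map, List.length_range]
  refine sum_congr rfl fun j hj => ?_
  rw [List.getD_eq_getElem _ _ (by simpa using hj), List.getElem_map, List.getElem_range, bit_col]

/-- the table of the parities -/
def PT : ℕ := 0x96696996699696696996966996696996699696699669699696696996699696696996966996696996966969966996966996696996699696696996966996696996699696699669699696696996699696699669699669969669699696699669699696696996699696696996966996696996699696699669699696696996699696696996966996696996966969966996966996696996699696696996966996696996966969966996966969969669966969966996966996696996966969966996966996696996699696696996966996696996699696699669699696696996699696696996966996696996966969966996966996696996699696696996966996696996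

/-- parity of the low eleven bits -/
noncomputable def pa (x : ℕ) : ℕ := Nat.land (Nat.shiftRight PT (Nat.land x 2047)) 1

theorem PT_ok : (List.range 2048).all (fun y => Nat.beq (pa y) (par32 y)) = true := by decide +kernel

theorem pa_lt (x : ℕ) : pa x < 2 := by
  show (PT >>> _) &&& 1 < 2
  rw [Nat.and_one_is_mod]
  omega

theorem bit_pa (x : ℕ) : bit (pa x) 0 = ∑ k ∈ range 11, bit x k := by
  have h1 : x &&& 2047 = x % 2 ^ 11 := Nat.and_two_pow_sub_one_eq_mod x 11
  have h2 : x % 2 ^ 11 < 2 ^ 11 := Nat.mod_lt _ (by norm_num)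
  have h3 := Nat.eq_of_beq_eq_true (List.all_eq_true.1 PT_ok _ (List.mem_range.2 h2))
  have h4 : pa (x % 2 ^ 11) = pa x := by
    show (PT >>> ((x % 2 ^ 11) &&& 2047)) &&& 1 = (PT >>> (x &&& 2047)) &&& 1
    rw [h1, show (x % 2 ^ 11) &&& 2047 = x % 2 ^ 11 % 2 ^ 11 from Nat.and_two_pow_sub_one_eq_mod _ 11, Nat.mod_mod]
  rw [← h4, h3, bit_par32, if_pos rfl, sum_range_32 (n := 11) (by norm_num) h2]
  refine sum_congr rfl fun k hk => ?_
  unfold bit
  rw [Nat.testBit_mod_two_pow, decide_eq_true (mem_range.1 hk), Bool.true_and]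

/-! ### signs -/

section

variable {n : ℕ}

/-- the central elements -/
def ze (s : ZMod 2) : Pauli n := ⟨s, 0, 0⟩

theorem ze_mul (s : ZMod 2) (x : Pauli n) : ze s * x = ⟨s + x.s, x.a, x.b⟩ := by
  ext i <;> simp [ze]

theorem mul_ze (s : ZMod 2) (x : Pauli n) : x * ze s = ze s * x := by
  ext i <;> simp [ze, add_comm]

theorem ze_ze (s t : ZMod 2) : (ze s : Pauli n) * ze t = ze (s + t) := by rw [ze_mul]; rfl

theorem aut_ze (α : Pauli n ≃* Pauli n) (s : ZMod 2) : α (ze s) = ze s := by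
  rcases zmod2_cases s with rfl | rfl
  · exact map_one α
  · exact aut_z α

theorem eq_ze {x y : Pauli n} (h : ab x = ab y) : x = ze (x.s + y.s) * y := by
  rw [ze_mul]
  refine Pauli.ext ?_ (congrArg Prod.fst h) (congrArg Prod.snd h)
  show x.s = x.s + y.s + y.s
  rw [add_assoc, zmod2_add_self, add_zero]

theorem ab_ze (s : ZMod 2) (x : Pauli n) : ab (ze s * x) = ab x := by rw [ze_mul]; rfl

theorem ab_aut (α : Pauli n ≃* Pauli n) {x y : Pauli n} (h : ab x = ab y) : ab (α x) = ab (α y) := by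
  rw [eq_ze h, map_mul, aut_ze, ab_ze]

theorem form_ab {x y x' y' : Pauli n} (h : ab x = ab x') (h' : ab y = ab y') : Pauli.form x y = Pauli.form x' y' := by
  have h1 : x.a = x'.a := congrArg Prod.fst h
  have h2 : x.b = x'.b := congrArg Prod.snd h
  have h3 : y.a = y'.a := congrArg Prod.fst h'
  have h4 : y.b = y'.b := congrArg Prod.snd h'
  simp only [Pauli.form, h1, h2, h3, h4]

/-- `α x = ± x` -/
def Sn (α : Pauli n ≃* Pauli n) (x : Pauli n) (s : ZMod 2) : Prop := α x = ze s * x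

/-- the sign -/
def sv (α : Pauli n ≃* Pauli n) (x : Pauli n) : ZMod 2 := (α x).s + x.s

variable {α : Pauli n ≃* Pauli n} {x y : Pauli n} {s t : ZMod 2}

theorem sn_sv (h : ab (α x) = ab x) : Sn α x (sv α x) := eq_ze h

theorem Sn.fix (h : Sn α x s) : ab (α x) = ab x := by rw [h, ab_ze]

theorem Sn.sv_eq (h : Sn α x s) : sv α x = s := by
  unfold sv
  rw [h, ze_mul]
  show s + x.s + x.s = s
  rw [add_assoc, zmod2_add_self, add_zero]

theorem Sn.congr (h : Sn α x s) (hxy : ab y = ab x) : Sn α y s := by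
  unfold Sn at *
  rw [eq_ze hxy, map_mul, aut_ze, h, ← mul_assoc, ← mul_assoc, ze_ze, ze_ze, add_comm]

theorem Sn.mul (h : Sn α x s) (h' : Sn α y t) : Sn α (x * y) (s + t) := by
  unfold Sn at *
  rw [map_mul, h, h', mul_assoc, ← mul_assoc x, mul_ze, ← mul_assoc, ← mul_assoc, ze_ze, mul_assoc]

theorem Sn.one : Sn α 1 0 := by
  unfold Sn
  rw [map_one, mul_one]
  rfl

/-- the product over the orbit -/
def pr (α : Pauli n ≃* Pauli n) (x : Pauli n) : ℕ → Pauli n
  | 0 => 1
  | d + 1 => pr α x d * (α ^ d) x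

theorem pr_succ' (α : Pauli n ≃* Pauli n) (x : Pauli n) : ∀ d, pr α x (d + 1) = x * α (pr α x d)
  | 0 => by simp [pr]
  | d + 1 => by
    show pr α x (d + 1) * (α ^ (d + 1)) x = x * α (pr α x d * (α ^ d) x)
    rw [pr_succ' α x d, map_mul, mul_assoc, pow_succ']
    rfl

theorem pr_fix {d : ℕ} (h : ab ((α ^ d) x) = ab x) : ab (α (pr α x d)) = ab (pr α x d) := by
  have h1 := congrArg ab (pr_succ' α x d)
  rw [pr, ab_mul, ab_mul, h, add_comm] at h1
  exact (add_left_cancel h1).symm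

theorem Sn.pow {d : ℕ} (h : Sn α (pr α x d) s) : Sn (α ^ d) x (s + Pauli.form x (pr α x d)) := by
  have h1 := pr_succ' α x d
  rw [pr, h, ← mul_assoc, mul_ze, mul_assoc, Pauli.mul_eq_mul_mul_form x] at h1
  change _ = ze s * (ze _ * _) at h1
  rw [← mul_assoc, ze_ze, ← mul_assoc, ← mul_ze, mul_assoc] at h1
  exact mul_left_cancel h1

theorem ch_eq (α : Pauli n ≃* Pauli n) (x : Pauli n) [Decidable (ab (α x) = ab x)] :
    ch x (α x) = if ab (α x) = ab x then sg ℚ (sv α x) else 0 := by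
  unfold ch
  by_cases h : ab (α x) = ab x
  · rw [if_pos h]
    have h1 : α x = ze (sv α x) * x := sn_sv h
    rcases zmod2_cases (sv α x) with h2 | h2 <;> rw [h2] at h1 ⊢
    · rw [if_pos (by rw [h1]; exact (one_mul x).symm), sg_zero]
    · have h3 : x = Pauli.z n * α x := by
        rw [h1, ← mul_assoc]
        exact (one_mul x).symm.trans (congrArg (· * x) Pauli.z_sq.symm)
      rw [if_neg, if_pos h3, sg_one]
      intro h4
      rw [← h4] at h3
      exact Pauli.z_ne_one (mul_right_cancel (h3.symm.trans (one_mul x).symm))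
  · rw [if_neg h, if_neg (fun h1 => h (by rw [← h1])), if_neg]
    intro h1
    exact h ((ab_eq_iff _ _).2 (Or.inr h1)).symm

theorem sum_param (α : Pauli n ≃* Pauli n) (γ : B n × B n → ℚ) (m : ℕ) (φ : ℕ → Pauli n)
    (h1 : ∀ u, ab (α (φ u)) = ab (φ u)) (h2 : ∀ u < m, ∀ v < m, ab (φ u) = ab (φ v) → u = v)
    (h3 : ∀ x, ab (α x) = ab x → ∃ u < m, ab (φ u) = ab x) :
    ∑ v : B n × B n, ch (mkP v) (α (mkP v)) * γ v = ∑ u ∈ range m, sg ℚ (sv α (φ u)) * γ (ab (φ u)) := by
  classical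
  have h4 : ∑ v : B n × B n, ch (mkP v) (α (mkP v)) * γ v =
      ∑ v ∈ univ.filter (fun v : B n × B n => ab (α (mkP v)) = ab (mkP v)), sg ℚ (sv α (mkP v)) * γ v := by
    rw [sum_filter]
    refine sum_congr rfl fun v _ => ?_
    rw [ch_eq]
    split_ifs <;> simp
  rw [h4]
  symm
  refine sum_bij (fun u _ => ab (φ u)) (fun u _ => mem_filter.2 ⟨mem_univ _, ?_⟩)
    (fun u hu v hv huv => h2 u (mem_range.1 hu) v (mem_range.1 hv) huv) (fun v hv => ?_) fun u _ => ?_
  · exact (ab_aut α (x := mkP (ab (φ u))) (y := φ u) rfl).trans (h1 u)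
  · obtain ⟨u, hu, h⟩ := h3 _ (mem_filter.1 hv).2
    exact ⟨u, mem_range.2 hu, h⟩
  · rw [((sn_sv (h1 u)).congr (y := mkP (ab (φ u))) rfl).sv_eq]

end

/-! ### codes -/

/-- the element of a code -/
abbrev P (c : ℕ) : Pauli 11 := dec 11 c

theorem ab_xor (x y : ℕ) : ab (P (x ^^^ y)) = ab (P x * P y) :=
  Prod.ext (funext fun _ => bit_xor _ _ _) (funext fun _ => bit_xor _ _ _)

theorem ab_zero : ab (P 0) = ab (1 : Pauli 11) :=
  Prod.ext (funext fun _ => bit_zero _) (funext fun _ => bit_zero _)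

theorem ab_iff {x y : ℕ} : ab (P x) = ab (P y) ↔ ∀ k < 22, bit x k = bit y k := by
  constructor
  · intro h k hk
    rcases Nat.lt_or_ge k 11 with h1 | h1
    · exact congrFun (congrArg Prod.snd h) ⟨k, h1⟩
    · have h2 : bit x (11 + (k - 11)) = bit y (11 + (k - 11)) := congrFun (congrArg Prod.fst h) ⟨k - 11, by omega⟩
      rwa [show 11 + (k - 11) = k by omega] at h2
  · intro h
    exact Prod.ext (funext fun i => h _ (by omega)) (funext fun i => h _ (by omega))

theorem ab_inj {x y : ℕ} (hx : x < 2 ^ 22) (hy : y < 2 ^ 22) (h : ab (P x) = ab (P y)) : x = y :=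
  eq_of_bit hx hy (ab_iff.1 h)

theorem exists_code (x : Pauli 11) : ∃ c < 2 ^ 22, ab (P c) = ab x := by
  refine ⟨2 ^ 11 * idx x.a + idx x.b, ?_, ?_⟩
  · have h1 := idx_lt x.a
    have h2 := idx_lt x.b
    omega
  · refine Prod.ext (funext fun i => ?_) (funext fun i => ?_)
    · show bit _ (11 + i) = x.a i
      rw [← Monster.PauliBits.bit_idx x.a i]
      unfold bit
      rw [Nat.testBit_two_pow_mul_add _ (idx_lt _), if_neg (show ¬ 11 + (i : ℕ) < 11 by omega), Nat.add_sub_cancel_left]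
    · show bit _ i = x.b i
      rw [← Monster.PauliBits.bit_idx x.b i]
      unfold bit
      rw [Nat.testBit_two_pow_mul_add _ (idx_lt _), if_pos i.2]

theorem linL_congr {L : List ℕ} (hL : L.length ≤ 22) {x y : ℕ} (h : ab (P x) = ab (P y)) : linL L x = linL L y := by
  apply Nat.eq_of_testBit_eq
  intro i
  apply bit_inj
  rw [bit_linL, bit_linL]
  exact sum_congr rfl fun k hk => by rw [ab_iff.1 h k (by have := mem_range.1 hk; omega)]

/-- the symplectic form on codes -/
noncomputable def fm (x y : ℕ) : ℕ :=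
  pa (Nat.xor (Nat.land x (Nat.shiftRight y 11)) (Nat.land y (Nat.shiftRight x 11)))

/-- the quadratic form on codes -/
noncomputable def qf (x : ℕ) : ℕ := pa (Nat.land x (Nat.shiftRight x 11))

theorem dot_eq (x y : ℕ) : (P x).b ⬝ᵥ (P y).a = ∑ k ∈ range 11, bit (x &&& (y >>> 11)) k := by
  unfold dotProduct
  rw [sum_range]
  exact sum_congr rfl fun k _ => by rw [bit_and, bit_shiftRight]; rfl

theorem bit_fm (x y : ℕ) : bit (fm x y) 0 = Pauli.form (P x) (P y) := by
  unfold fm Pauli.form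
  rw [bit_pa, dot_eq, dot_eq, ← sum_add_distrib]
  exact sum_congr rfl fun k _ => bit_xor _ _ _

theorem bit_qf (x : ℕ) : bit (qf x) 0 = (P x).b ⬝ᵥ (P x).a := by
  unfold qf
  rw [bit_pa, dot_eq]
  rfl

/-- `α` acts on the codes by the matrix `L` -/
def Ind (α : Pauli 11 ≃* Pauli 11) (L : List ℕ) : Prop := ∀ c, ab (α (P c)) = ab (P (linL L c))

variable {α β : Pauli 11 ≃* Pauli 11}

theorem ab_lin : ∀ (X Y : List ℕ), X.length = Y.length →
    (∀ k < X.length, ab (α (P (X.getD k 0))) = ab (P (Y.getD k 0))) → ∀ c, ab (α (P (linL X c))) = ab (P (linL Y c))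
  | [], [], _, _, c => by rw [linL_nil, ab_aut α ab_zero, map_one, ab_zero]
  | x :: X, y :: Y, hl, h, c => by
    have h1 := ab_lin X Y (by simpa using hl) (fun k hk => h (k + 1) (by simpa using hk)) (c >>> 1)
    have h0 : ab (α (P x)) = ab (P y) := h 0 (by simp)
    rw [linL_cons, linL_cons, ab_aut α (ab_xor _ _), map_mul, ab_xor, ab_mul, ab_mul, h1]
    congr 1
    rcases H633.Ore.and_one_cases c with h2 | h2 <;> rw [h2]
    · rw [Nat.zero_mul, Nat.zero_mul, ab_aut α ab_zero, map_one, ab_zero]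
    · rw [Nat.one_mul, Nat.one_mul, h0]
  | [], _ :: _, h, _, _ => by simp at h
  | _ :: _, [], h, _, _ => by simp at h

theorem idL_length : (idL 22).length = 22 := by simp [idL]

theorem idL_getD {k : ℕ} (hk : k < 22) : (idL 22).getD k 0 = 2 ^ k := by
  rw [List.getD_eq_getElem _ _ (by rw [idL_length]; exact hk)]
  simp [idL]

theorem ab_idL (c : ℕ) : ab (P (linL (idL 22) c)) = ab (P c) := by
  obtain ⟨c', h1, h2⟩ := exists_code (P c)
  rw [← linL_congr idL_length.le h2, linL_idL h1, h2]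

theorem ind_of {L : List ℕ} (hL : L.length = 22) (h : ∀ k < 22, ab (α (P (2 ^ k))) = ab (P (L.getD k 0))) : Ind α L := by
  intro c
  rw [← ab_lin (α := α) (idL 22) L (by rw [idL_length, hL]) (fun k hk => by
    rw [idL_length] at hk
    rw [idL_getD hk, h k hk]) c]
  exact ab_aut α (ab_idL c).symm

theorem Ind.one : Ind 1 (idL 22) := fun c => (ab_idL c).symm

theorem Ind.mul {A B : List ℕ} (hA : Ind α A) (hB : Ind β B) : Ind (α * β) (B.map (linL A)) := by
  intro c
  rw [linL_map, ← hA]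
  exact ab_aut α (hB c)

/-- the matrix of the product over the orbit -/
def IndN (α : Pauli 11 ≃* Pauli 11) (d : ℕ) (N : List ℕ) : Prop := ∀ c, ab (pr α (P c) d) = ab (P (linL N c))

theorem IndN.succ {d : ℕ} {N L : List ℕ} (hN : IndN α d N) (hL : Ind (α ^ d) L) (hl : N.length = L.length) :
    IndN α (d + 1) (List.zipWith Nat.xor N L) := by
  intro c
  rw [linL_zip _ _ hl, ab_xor, pr, ab_mul, ab_mul, hN, hL]

theorem IndN.one : IndN α 1 (idL 22) := by
  intro c
  rw [ab_idL]
  simp [pr]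

/-! ### bases of the fixed space -/

/-- `B` is a basis of the fixed space, `U` gives the coordinates -/
structure Bs (α : Pauli 11 ≃* Pauli 11) (B U : List ℕ) : Prop where
  le : B.length ≤ 22
  lenU : U.length = 22
  ltU : ∀ c, linL U c < 2 ^ B.length
  fix : ∀ u, ab (α (P (linL B u))) = ab (P (linL B u))
  span : ∀ c, ab (α (P c)) = ab (P c) → ab (P (linL B (linL U c))) = ab (P c)
  dual : ∀ u < 2 ^ B.length, linL U (linL B u) = u

/-- the signs on the basis -/
def Sg (α : Pauli 11 ≃* Pauli 11) (B : List ℕ) (e : ℕ) : Prop :=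
  e < 2 ^ B.length ∧ ∀ k < B.length, Sn α (P (B.getD k 0)) (bit e k)

theorem sn_lin : ∀ (B : List ℕ) (s : ℕ → ZMod 2), (∀ k < B.length, Sn α (P (B.getD k 0)) (s k)) → ∀ u,
    Sn α (P (linL B u)) (∑ k ∈ range B.length, s k * bit u k)
  | [], _, _, u => by
    rw [linL_nil, List.length_nil, sum_range_zero]
    exact Sn.one.congr ab_zero
  | x :: B, s, h, u => by
    have h1 := sn_lin B (fun k => s (k + 1)) (fun k hk => h (k + 1) (by simpa using hk)) (u >>> 1)
    have h0 : Sn α (P x) (s 0) := h 0 (by simp)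
    have h2 : Sn α (P ((u &&& 1) * x)) (s 0 * bit u 0) := by
      unfold bit
      rw [Nat.testBit_zero, Nat.and_one_is_mod]
      rcases Nat.mod_two_eq_zero_or_one u with h3 | h3 <;> rw [h3]
      · simpa using Sn.one.congr ab_zero
      · simpa using h0
    rw [linL_cons, List.length_cons, sum_range_succ', add_comm]
    have h3 := (h2.mul h1).congr (ab_xor _ _)
    simp only [bit_shiftRight, add_comm 1] at h3
    exact h3

/-- the quotient by the centre -/
abbrev VV : Type := Monster.PauliBasic.B 11 × Monster.PauliBasic.B 11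

variable {B U : List ℕ} {e : ℕ}

theorem Bs.sn (hb : Bs α B U) (he : Sg α B e) (u : ℕ) : Sn α (P (linL B u)) (dt e u) := by
  rw [dt_of_lt hb.le he.1]
  exact sn_lin B _ he.2 u

theorem Bs.sn_fix (hb : Bs α B U) (he : Sg α B e) {c : ℕ} (hc : ab (α (P c)) = ab (P c)) :
    Sn α (P c) (dt e (linL U c)) := (hb.sn he _).congr (hb.span c hc).symm

theorem Bs.sn_pow (hb : Bs α B U) (he : Sg α B e) {d : ℕ} {N : List ℕ} (hN : IndN α d N) {c : ℕ}
    (hc : ab ((α ^ d) (P c)) = ab (P c)) :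
    Sn (α ^ d) (P c) (dt e (linL U (linL N c)) + bit (fm c (linL N c)) 0) := by
  have h1 : ab (α (P (linL N c))) = ab (P (linL N c)) := by
    rw [← hN, ← pr_fix hc]
    exact ab_aut α (hN c).symm
  have h2 := ((hb.sn_fix he h1).congr (hN c)).pow
  rwa [form_ab rfl (hN c), ← bit_fm] at h2

theorem Bs.sum_eq (hb : Bs α B U) (γ : VV → ℚ) :
    ∑ v : VV, ch (mkP v) (α (mkP v)) * γ v =
      ∑ u ∈ range (2 ^ B.length), sg ℚ (sv α (P (linL B u))) * γ (ab (P (linL B u))) := by
  refine sum_param α γ _ (fun u => P (linL B u)) hb.fix (fun u hu v hv huv => ?_) fun x hx => ?_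
  · rw [← hb.dual u hu, ← hb.dual v hv]
    exact linL_congr hb.lenU.le huv
  · obtain ⟨c, -, hc⟩ := exists_code x
    exact ⟨linL U c, hb.ltU c, by rw [hb.span c (by rw [ab_aut α hc, hx, hc]), hc]⟩

end Cfsg.Agent.TAB.B.C2

private theorem dce_252056f55213 : _root_.True := by
  try have : _root_.True := by simp only [_root_.Cfsg.Agent.TAB.B.C2.pr.eq_def]
  try have : _root_.True := by simp only [_root_.Cfsg.Agent.TAB.B.C2.ze.eq_1]
  try have : _root_.True := by simp only [_root_.Cfsg.Agent.TAB.B.C2.pr.eq_2]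
  try have : _root_.True := by simp only [_root_.Cfsg.Agent.TAB.B.C2.pr.eq_1]
  exact _root_.True.intro
end

-- part: TAB/B/C2/Gauss
section
set_option linter.all false
open scoped Cfsg.Agent.FastGrp

/-!
# Gauss sums and the traces on the spin space (helper48)
-/

set_option autoImplicit false

namespace Cfsg.Agent.TAB.B.C2

open Cfsg.Agent.Monster.PauliBasic Cfsg.Agent.Monster.PauliClif Cfsg.Agent.Monster.PauliRep
open Cfsg.Agent.Monster.PauliBits (bit bit_xor bit_and bit_shiftRight bit_zero bit_eq_zero_of_lt bit_one dec enc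
  bit_eq_one_iff)
open Cfsg.Agent.H633.Ore (linL linL_nil linL_cons linL_zero linL_xor linL_map linL_lt idL linL_idL force force_eq)
open Cfsg.Agent.H155.TC.Pau (W tr)
open Cfsg.Agent.TAB.C2B (Cl ch mkP)
open Cfsg.Agent.BabyM.QAct (form_mul_left form_comm form_one_left)
open Finset Matrix

theorem sum_two_mul (f : ℕ → ℚ) : ∀ n, ∑ u ∈ range (2 * n), f u = ∑ u ∈ range n, (f (2 * u) + f (2 * u + 1))
  | 0 => rfl
  | n + 1 => by
    rw [show 2 * (n + 1) = 2 * n + 1 + 1 by ring, sum_range_succ, sum_range_succ, sum_two_mul f n, sum_range_succ,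
      add_assoc]

/-- an adapted basis: `m` hyperbolic pairs, then the radical -/
inductive Ad (β : ℕ → ℕ → ZMod 2) : ℕ → List ℕ → Prop
  | nil : Ad β 0 []
  | rad {x : ℕ} {B : List ℕ} : (∀ u, β x (linL B u) = 0) → Ad β 0 B → Ad β 0 (x :: B)
  | hyp {m x y : ℕ} {B : List ℕ} : (∀ u, β x (linL B u) = 0) → (∀ u, β y (linL B u) = 0) →
      (∀ u, β x (y ^^^ linL B u) = 1) → Ad β m B → Ad β (m + 1) (x :: y :: B)

/-- the Arf sum -/
def gq (m eps : ℕ) : ZMod 2 := ∑ j ∈ range m, bit eps (2 * j) * bit eps (2 * j + 1)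

theorem shift_eq_zero (e : ℕ) : e = 0 ↔ bit e 0 = 0 ∧ e >>> 1 = 0 := by
  unfold bit
  rw [Nat.testBit_zero, Nat.shiftRight_eq_div_pow, pow_one]
  rcases Nat.mod_two_eq_zero_or_one e with h | h <;> rw [h] <;> simp <;> omega

theorem shift_lt {e n : ℕ} (h : e < 2 ^ (n + 1)) : e >>> 1 < 2 ^ n := by
  rw [Nat.shiftRight_eq_div_pow, pow_one]
  rw [pow_succ] at h
  omega

theorem closed_lin {F : ℕ → Prop} (h0 : F 0) (hx : ∀ x y, F x → F y → F (x ^^^ y)) :
    ∀ B : List ℕ, (∀ b ∈ B, F b) → ∀ u, F (linL B u)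
  | [], _, _ => h0
  | x :: B, h, u => by
    rw [linL_cons]
    refine hx _ _ ?_ (closed_lin h0 hx B (fun b hb => h b (List.mem_cons_of_mem _ hb)) _)
    rcases H633.Ore.and_one_cases u with h1 | h1 <;> rw [h1]
    · rwa [Nat.zero_mul]
    · rw [Nat.one_mul]; exact h x List.mem_cons_self

theorem gauss {β : ℕ → ℕ → ZMod 2} {Φ : ℕ → ZMod 2} {F : ℕ → Prop} (h0 : F 0) (hx : ∀ x y, F x → F y → F (x ^^^ y))
    (hΦ0 : Φ 0 = 0) (hΦ : ∀ x y, F x → F y → Φ (x ^^^ y) = Φ x + Φ y + β x y) {m : ℕ} {B : List ℕ} (h : Ad β m B) :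
    ∀ eps, (∀ b ∈ B, F b) → eps < 2 ^ B.length → (∀ k < B.length, bit eps k = Φ (B.getD k 0)) →
      ∑ u ∈ range (2 ^ B.length), sg ℚ (Φ (linL B u)) =
        if eps >>> (2 * m) = 0 then sg ℚ (gq m eps) * 2 ^ (B.length - m) else 0 := by
  induction h with
  | nil =>
    intro eps _ he _
    have : eps = 0 := by simpa using he
    subst this
    simp [linL_nil, hΦ0, gq]
  | @rad x B h1 _ ih =>
    intro eps hF he hb
    have hF' : ∀ b ∈ B, F b := fun b hb => hF b (List.mem_cons_of_mem _ hb)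
    have h2 := ih (eps >>> 1) hF' (shift_lt he) fun k hk => by
      rw [bit_shiftRight, add_comm, hb _ (by simpa using hk), List.getD_cons_succ]
    have h3 : bit eps 0 = Φ x := hb 0 (by simp)
    rw [List.length_cons, pow_succ', sum_two_mul]
    have h4 : ∀ u ∈ range (2 ^ B.length), sg ℚ (Φ (linL (x :: B) (2 * u))) + sg ℚ (Φ (linL (x :: B) (2 * u + 1))) =
        (1 + sg ℚ (Φ x)) * sg ℚ (Φ (linL B u)) := fun u _ => by
      rw [linL_even, linL_odd, hΦ _ _ (hF x List.mem_cons_self) (closed_lin h0 hx B hF' u), h1, add_zero, sg_add]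
      ring
    rw [sum_congr rfl h4, ← mul_sum, h2, ← h3]
    simp only [mul_zero, Nat.shiftRight_zero, gq, range_zero, sum_empty, sg_zero, one_mul, Nat.sub_zero]
    by_cases h5 : eps = 0
    · subst h5
      simp only [bit_zero, sg_zero, Nat.zero_shiftRight, if_true]
      ring
    · rw [if_neg h5]
      rw [shift_eq_zero] at h5
      rcases zmod2_cases (bit eps 0) with h6 | h6
      · rw [if_neg (fun h7 => h5 ⟨h6, h7⟩), mul_zero]
      · rw [h6, sg_one, add_neg_cancel, zero_mul]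
  | @hyp m x y B h1 h1' h1'' hA ih =>
    intro eps hF he hb
    have hF' : ∀ b ∈ B, F b := fun b hb => hF b (List.mem_cons_of_mem _ (List.mem_cons_of_mem _ hb))
    have hFx : F x := hF x List.mem_cons_self
    have hFy : F y := hF y (List.mem_cons_of_mem _ List.mem_cons_self)
    have h2 := ih (eps >>> 1 >>> 1) hF' (shift_lt (shift_lt he)) fun k hk => by
      rw [bit_shiftRight, bit_shiftRight, show 1 + (1 + k) = k + 1 + 1 by ring, hb _ (by simp; omega),
        List.getD_cons_succ, List.getD_cons_succ]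
    have h3 : bit eps 0 = Φ x := hb 0 (by simp)
    have h3' : bit eps 1 = Φ y := hb 1 (by simp)
    have hle : m ≤ B.length := by
      clear * - hA
      induction hA with
      | nil => exact le_rfl
      | rad => exact Nat.zero_le _
      | hyp _ _ _ _ ih => simp only [List.length_cons]; omega
    rw [List.length_cons, List.length_cons, pow_succ', sum_two_mul]
    simp only [linL_even, linL_odd]
    rw [pow_succ', sum_two_mul]
    have h4 : ∀ u ∈ range (2 ^ B.length), sg ℚ (Φ (linL (y :: B) (2 * u))) + sg ℚ (Φ (x ^^^ linL (y :: B) (2 * u))) +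
        (sg ℚ (Φ (linL (y :: B) (2 * u + 1))) + sg ℚ (Φ (x ^^^ linL (y :: B) (2 * u + 1)))) =
        (2 * sg ℚ (Φ x * Φ y)) * sg ℚ (Φ (linL B u)) := fun u _ => by
      have hl := closed_lin h0 hx B hF' u
      rw [linL_even, linL_odd, hΦ _ _ hFx (hx _ _ hFy hl), hΦ _ _ hFx hl, hΦ _ _ hFy hl, h1, h1', h1'']
      simp only [add_zero, sg_add, sg_one]
      rcases zmod2_cases (Φ x) with h | h <;> rcases zmod2_cases (Φ y) with h' | h' <;> rw [h, h'] <;> simp <;> ring
    rw [sum_congr rfl h4, ← mul_sum, h2, ← h3, ← h3', ← Nat.shiftRight_add, ← Nat.shiftRight_add,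
      show 1 + (1 + 2 * m) = 2 * (m + 1) by ring]
    split_ifs
    · have h5 : gq (m + 1) eps = gq m (eps >>> 1 >>> 1) + bit eps 0 * bit eps 1 := by
        unfold gq
        rw [sum_range_succ']
        congr 1
        exact sum_congr rfl fun j _ => by
          rw [bit_shiftRight, bit_shiftRight, bit_shiftRight, bit_shiftRight]; congr 2 <;> ring
      rw [h5, sg_add, show B.length + 1 + 1 - (m + 1) = B.length - m + 1 by omega, pow_succ]
      ring
    · rw [mul_zero]

theorem ad_zero : ∀ B : List ℕ, Ad (fun _ _ => 0) 0 B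
  | [] => Ad.nil
  | _ :: B => Ad.rad (fun _ => rfl) (ad_zero B)

/-! ### the check of an adapted basis -/

/-- the form on codes -/
def fz (x y : ℕ) : ZMod 2 := Pauli.form (P x) (P y)

theorem fz_xor (x y z : ℕ) : fz x (y ^^^ z) = fz x y + fz x z := by
  unfold fz
  rw [form_ab rfl (ab_xor y z), form_comm, form_mul_left, form_comm (P y), form_comm (P z)]

theorem fz_zero (x : ℕ) : fz x 0 = 0 := by
  unfold fz
  rw [form_ab rfl ab_zero, form_comm, form_one_left]

/-- orthogonal to all entries -/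
noncomputable def orth (x : ℕ) (B : List ℕ) : Bool := B.all fun b => Nat.beq (fm x b) 0

theorem orth_spec {x : ℕ} {B : List ℕ} (h : orth x B = true) (u : ℕ) : fz x (linL B u) = 0 :=
  closed_lin (F := fun c => fz x c = 0) (fz_zero x) (fun a b ha hb => by rw [fz_xor, ha, hb, add_zero]) B
    (fun b hb => by
      have h1 := Nat.eq_of_beq_eq_true (List.all_eq_true.1 h b hb)
      unfold fz
      rw [← bit_fm, h1, bit_zero]) u

/-- the radical -/
noncomputable def radB (B : List ℕ) : Bool := List.rec true (fun x B ih => orth x B && ih) B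

/-- the check -/
noncomputable def adB (m : ℕ) : List ℕ → Bool :=
  Nat.rec radB (fun _ ih B => List.casesOn B false fun x B' => List.casesOn B' false fun y B'' =>
    Nat.beq (fm x y) 1 && orth x B'' && orth y B'' && ih B'') m

theorem adB_spec : ∀ (m : ℕ) (B : List ℕ), adB m B = true → Ad fz m B
  | 0, [], _ => Ad.nil
  | 0, x :: B, h => by
    have h1 : (orth x B && radB B) = true := h
    rw [Bool.and_eq_true] at h1
    exact Ad.rad (orth_spec h1.1) (adB_spec 0 B h1.2)
  | _ + 1, [], h => absurd h Bool.false_ne_true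
  | _ + 1, [_], h => absurd h Bool.false_ne_true
  | m + 1, x :: y :: B, h => by
    have h1 : (Nat.beq (fm x y) 1 && orth x B && orth y B && adB m B) = true := h
    simp only [Bool.and_eq_true] at h1
    refine Ad.hyp (orth_spec h1.1.1.2) (orth_spec h1.1.2) (fun u => ?_) (adB_spec m B h1.2)
    rw [fz_xor, orth_spec h1.1.1.2, add_zero]
    unfold fz
    rw [← bit_fm, Nat.eq_of_beq_eq_true h1.1.1.1]
    rfl

/-! ### values -/

/-- the value of a code: `0`, `2 ^ h`, `- 2 ^ h` -/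
def vl (c h : ℕ) : ℤ := if c = 0 then 0 else if c = 1 then 2 ^ h else -2 ^ h

/-- the code of a Gauss sum -/
noncomputable def gs (m eps : ℕ) : ℕ :=
  cond (Nat.beq (Nat.shiftRight eps (Nat.mul 2 m)) 0)
    (force (Nat.land (Nat.land eps (Nat.shiftRight eps 1)) 0x155555) fun y =>
      Nat.succ (Nat.xor (pa y) (pa (Nat.shiftRight y 11)))) 0

theorem val_of_bit {x : ℕ} (h : x < 2) : x = (bit x 0).val := by
  interval_cases x <;> rfl

theorem sum_even (f : ℕ → ZMod 2) : ∀ n, ∑ u ∈ range (2 * n), f u = ∑ u ∈ range n, (f (2 * u) + f (2 * u + 1))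
  | 0 => rfl
  | n + 1 => by
    rw [show 2 * (n + 1) = 2 * n + 1 + 1 by ring, sum_range_succ, sum_range_succ, sum_even f n, sum_range_succ,
      add_assoc]

theorem bit_five : ∀ j < 11, bit 0x155555 (2 * j) = 1 ∧ bit 0x155555 (2 * j + 1) = 0 := by decide

theorem gs_eq {m eps : ℕ} (hm : m ≤ 11) : gs m eps = if eps >>> (2 * m) = 0 then (gq m eps).val + 1 else 0 := by
  unfold gs
  rw [force_eq]
  by_cases h : eps >>> (2 * m) = 0
  · have h1 : Nat.beq (Nat.shiftRight eps (Nat.mul 2 m)) 0 = true := by rw [Nat.beq_eq]; exact h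
    rw [h1, if_pos h]
    show (pa _ ^^^ pa _) + 1 = _
    congr 1
    have h2 : eps < 2 ^ (2 * m) := by
      rw [Nat.shiftRight_eq_div_pow, Nat.div_eq_zero_iff] at h
      exact h.resolve_left (by positivity)
    rw [val_of_bit (Nat.xor_lt_two_pow (n := 1) (pa_lt _) (pa_lt _)), bit_xor, bit_pa, bit_pa]
    congr 1
    obtain ⟨y, hy⟩ : ∃ y, y = (eps &&& (eps >>> 1)) &&& 0x155555 := ⟨_, rfl⟩
    change ∑ k ∈ range 11, bit ((eps &&& (eps >>> 1)) &&& 0x155555) k +
      ∑ k ∈ range 11, bit (((eps &&& (eps >>> 1)) &&& 0x155555) >>> 11) k = _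
    rw [← hy]
    simp only [bit_shiftRight]
    rw [← sum_range_add (fun k => bit y k) 11 11, show 11 + 11 = 2 * 11 from rfl, sum_even]
    unfold gq
    rw [← sum_subset (range_subset_range.2 hm)]
    · refine sum_congr rfl fun j hj => ?_
      have h3 := bit_five j (lt_of_lt_of_le (mem_range.1 hj) hm)
      rw [hy, bit_and, bit_and, bit_and, h3.1, h3.2, mul_zero, add_zero, mul_one, bit_shiftRight, add_comm 1]
    · intro j hj hj'
      have h3 := bit_five j (mem_range.1 hj)
      rw [hy, bit_and, bit_and, bit_and, h3.2, mul_zero, add_zero, bit_ge h2 (by simp at hj'; omega), zero_mul, zero_mul]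
  · have h1 : Nat.beq (Nat.shiftRight eps (Nat.mul 2 m)) 0 = false := by
      rw [Bool.eq_false_iff, Ne, Nat.beq_eq]; exact h
    rw [h1, if_neg h]
    rfl

theorem gs_lt {m eps : ℕ} (hm : m ≤ 11) : gs m eps < 3 := by
  rw [gs_eq hm]
  split_ifs
  · have := ZMod.val_lt (gq m eps); omega
  · norm_num

theorem vl_gs {m eps : ℕ} (hm : m ≤ 11) (h : ℕ) :
    ((vl (gs m eps) h : ℤ) : ℚ) = if eps >>> (2 * m) = 0 then sg ℚ (gq m eps) * 2 ^ h else 0 := by
  rw [gs_eq hm]
  split_ifs
  · rcases zmod2_cases (gq m eps) with h1 | h1 <;> rw [h1]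
    · simp [vl]
    · have : (1 : ZMod 2).val + 1 = 2 := rfl
      rw [this]
      simp [vl]
  · simp [vl]

variable {α : Pauli 11 ≃* Pauli 11} {T : W 11 ≃ₗ[ℚ] W 11} {B U : List ℕ} {e : ℕ}

theorem fix_xor {x y : ℕ} (hx : ab (α (P x)) = ab (P x)) (hy : ab (α (P y)) = ab (P y)) :
    ab (α (P (x ^^^ y))) = ab (P (x ^^^ y)) := by
  rw [ab_aut α (ab_xor x y), map_mul, ab_xor, ab_mul, ab_mul, hx, hy]

theorem fix_zero : ab (α (P 0)) = ab (P 0) := by rw [ab_aut α ab_zero, map_one, ab_zero]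

theorem sv_xor {x y : ℕ} (hx : ab (α (P x)) = ab (P x)) (hy : ab (α (P y)) = ab (P y)) :
    sv α (P (x ^^^ y)) = sv α (P x) + sv α (P y) := (((sn_sv hx).mul (sn_sv hy)).congr (ab_xor x y)).sv_eq

theorem sv_zero : sv α (P 0) = 0 := (Sn.one.congr ab_zero).sv_eq

theorem Bs.fix_mem (hb : Bs α B U) {b : ℕ} (h : b ∈ B) : ab (α (P b)) = ab (P b) := by
  obtain ⟨k, hk, rfl⟩ := List.getElem_of_mem h
  have := hb.fix (2 ^ k)
  rwa [linL_two_pow, List.getD_eq_getElem _ _ hk] at this

/-- **the square of the trace** -/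
theorem Bs.sq (hc : Cl α T) (hb : Bs α B U) (he : Sg α B e) : tr T * tr T = if e = 0 then 2 ^ B.length else 0 := by
  have h1 := hb.sum_eq fun _ => 1
  simp only [mul_one] at h1
  rw [hc.tr_sq, h1, gauss (Φ := fun c => sv α (P c)) (F := fun c => ab (α (P c)) = ab (P c)) fix_zero
    (fun _ _ => fix_xor) sv_zero (fun x y hx hy => by rw [sv_xor hx hy, add_zero]) (ad_zero B) e
    (fun b => hb.fix_mem) he.1 fun k hk => (he.2 k hk).sv_eq.symm]
  simp [gq]

theorem q_xor (x y : ℕ) : (P (x ^^^ y)).b ⬝ᵥ (P (x ^^^ y)).a = (P x).b ⬝ᵥ (P x).a + (P y).b ⬝ᵥ (P y).a + fz x y := by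
  have h1 : (P (x ^^^ y)).a = (P x).a + (P y).a := congrArg Prod.fst (ab_xor x y)
  have h2 : (P (x ^^^ y)).b = (P x).b + (P y).b := congrArg Prod.snd (ab_xor x y)
  rw [h1, h2, fz, Pauli.form, add_dotProduct, dotProduct_add, dotProduct_add]
  ring

/-- **the trace of the square** -/
theorem Bs.two (hc : Cl α T) (hb : Bs α B U) (he : Sg α B e) {m : ℕ} (hm : m ≤ 11) (ha : adB m B = true) :
    tr (T * T) = vl (gs m (e ^^^ colf qf B)) (B.length - m) := by
  rw [hc.tr_two, hb.sum_eq fun v => sg ℚ (v.2 ⬝ᵥ v.1), vl_gs hm,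
    ← gauss (Φ := fun c => sv α (P c) + (P c).b ⬝ᵥ (P c).a) (F := fun c => ab (α (P c)) = ab (P c)) fix_zero
    (fun _ _ => fix_xor) (by
      have h2 : (P 0).b = 0 := congrArg Prod.snd ab_zero
      rw [sv_zero, h2, zero_dotProduct, add_zero])
    (fun x y hx hy => by rw [sv_xor hx hy, q_xor]; ring) (adB_spec m B ha) (e ^^^ colf qf B)
    (fun b => hb.fix_mem) (Nat.xor_lt_two_pow he.1 (colf_lt _ _)) fun k hk => by
      rw [bit_xor, bit_colf _ _ _ hk, bit_qf, (he.2 k hk).sv_eq]]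
  exact sum_congr rfl fun u _ => by rw [sg_add]; rfl

/-! ### the check of a basis of the fixed space -/

/-- the check -/
noncomputable def bsB (L B U K : List ℕ) : Bool :=
  Nat.ble B.length 22 && Nat.beq U.length 22 && Nat.beq L.length 22 && Nat.beq K.length 22 &&
    U.all (fun c => Nat.blt c (Nat.pow 2 B.length)) && B.all (fun b => Nat.beq (linL L b) b) &&
    decide (B.map (linL U) = idL B.length) &&
    decide (List.zipWith Nat.xor (U.map (linL B)) (idL 22) = (List.zipWith Nat.xor L (idL 22)).map (linL K))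

theorem bsB_spec {L K : List ℕ} (h : bsB L B U K = true) (hL : Ind α L) : Bs α B U := by
  simp only [bsB, Bool.and_eq_true, decide_eq_true_eq, Nat.ble_eq, Nat.beq_eq] at h
  obtain ⟨⟨⟨⟨⟨⟨⟨h1, h2⟩, h3⟩, h4⟩, h5⟩, h6⟩, h7⟩, h8⟩ := h
  refine ⟨h1, h2, linL_lt fun c hc => ?_, closed_lin (F := fun c => ab (α (P c)) = ab (P c)) fix_zero
    (fun _ _ => fix_xor) B fun b hb => ?_, fun c hc => ?_, fun u hu => ?_⟩
  · have := List.all_eq_true.1 h5 c hc
    rwa [Nat.blt_eq] at this
  · rw [hL, Nat.eq_of_beq_eq_true (List.all_eq_true.1 h6 b hb)]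
  · have h9 := congrArg (fun X => linL X c) h8
    simp only [linL_map] at h9
    rw [linL_zip _ _ (by rw [List.length_map, h2, idL_length]), linL_zip _ _ (by rw [h3, idL_length]), linL_map,
      linL_congr (L := K) h4.le (y := 0) (by
        rw [ab_xor, ab_mul, ← hL, hc, ab_idL, ab_zero]
        exact Prod.ext (add_self _) (add_self _)), linL_zero] at h9
    rw [Nat.xor_eq_zero_iff.1 h9, ab_idL]
  · rw [← linL_map, h7, linL_idL hu]

end Cfsg.Agent.TAB.B.C2

private theorem dce_ee3f7832e5c3 : _root_.True := by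
  try have : _root_.True := by simp only [_root_.Cfsg.Agent.TAB.B.C2.vl.eq_1]
  try have : _root_.True := by simp only [_root_.Cfsg.Agent.TAB.B.C2.gq.eq_1]
  try have : _root_.True := by simp only [_root_.Cfsg.Agent.TAB.B.C2.fz.eq_1]
  try have : _root_.True := by simp only [_root_.Cfsg.Agent.TAB.B.C2.bsB.eq_1]
  exact _root_.True.intro
end

-- part: TAB/B/C2/Sp
section
prune_inst 0x1040710544000000081c000020001c438e000002004bc0008044020006c88a4020050e21b030211288b00c1460380040000000200020000000000c000119008000800002b008a000240006801000000000000000000000000000000000000000000000000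
set_option linter.all false
open scoped Cfsg.Agent.FastGrp

/-!
# The three parts of the trace (helper48)

`tp p g` : the sum of the diagonal entries at the coordinates with `p`; `sp` : the restriction to the qubit part.
-/

set_option autoImplicit false

namespace Cfsg.Agent.TAB.B.C2

open Cfsg.Agent.Monster.PauliBasic Cfsg.Agent.Monster.PauliClif Cfsg.Agent.Monster.PauliRep
open Cfsg.Agent.H155.TC.Pau (W tr)
open Cfsg.Agent.TAB.C2B (Cl)
open Cfsg.Agent.BabyM.QAct Cfsg.Agent.BabyM.QData Cfsg.Agent.BabyM.KCore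
open Finset Matrix

variable {n : ℕ} {ι : Type} [Fintype ι] [DecidableEq ι]

/-- the diagonal entry -/
def dg (g : (ι → ℚ) ≃ₗ[ℚ] (ι → ℚ)) (i : ι) : ℚ := g (Pi.single i 1) i

open Classical in
/-- the partial trace -/
noncomputable def tp (p : ι → Prop) (g : (ι → ℚ) ≃ₗ[ℚ] (ι → ℚ)) : ℚ := ∑ i, if p i then dg g i else 0

theorem trace_eq (X : (ι → ℚ) →ₗ[ℚ] (ι → ℚ)) : LinearMap.trace ℚ (ι → ℚ) X = ∑ i, X (Pi.single i 1) i := by
  refine Cfsg.Agent.H155.TC.Tr.trace_of_frame (fun b => LinearMap.proj b) (fun b => Pi.single b 1) (fun x => ?_) _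
  funext c
  rw [Finset.sum_apply, Finset.sum_eq_single c]
  · rw [Pi.smul_apply, Pi.single_eq_same]
    simp
  · intro b _ hb
    rw [Pi.smul_apply, Pi.single_eq_of_ne (Ne.symm hb), smul_zero]
  · intro hc
    exact absurd (Finset.mem_univ _) hc

theorem trace_split (C : Coord n ι) (g : (ι → ℚ) ≃ₗ[ℚ] (ι → ℚ)) :
    LinearMap.trace ℚ (ι → ℚ) (g : (ι → ℚ) →ₗ[ℚ] (ι → ℚ)) = tp C.isU g + tp C.isX g + tp C.isq g := by
  unfold tp
  rw [trace_eq, ← sum_add_distrib, ← sum_add_distrib]
  refine sum_congr rfl fun i _ => ?_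
  show dg g i = _
  rcases C.cases i with h | h | h
  · rw [if_pos h, if_neg (fun h' => h'.1 h), if_neg (fun h' => h'.1 h)]; ring
  · rw [if_pos h, if_neg h.1, if_neg (fun h' => C.not_isX_of_isU h' h)]; ring
  · rw [if_pos h, if_neg h.1, if_neg (C.not_isX_of_isU h)]; ring

open Classical in
/-- the projection -/
noncomputable def pj (p : ι → Prop) : (ι → ℚ) →ₗ[ℚ] (ι → ℚ) where
  toFun f i := if p i then f i else 0
  map_add' f g := by funext i; by_cases h : p i <;> simp [h]
  map_smul' a f := by funext i; by_cases h : p i <;> simp [h]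

omit [Fintype ι] [DecidableEq ι] in
open Classical in
theorem pj_apply (p : ι → Prop) (f : ι → ℚ) (i : ι) : pj p f i = if p i then f i else 0 := rfl

theorem tp_eq (p : ι → Prop) (g : (ι → ℚ) ≃ₗ[ℚ] (ι → ℚ)) :
    tp p g = LinearMap.trace ℚ (ι → ℚ) (pj p * (g : (ι → ℚ) →ₗ[ℚ] (ι → ℚ))) := by
  rw [trace_eq]
  rfl

theorem wform_single (wt : ι → ℚ) (f : ι → ℚ) (i : ι) : wform wt f (Pi.single i 1) = wt i * f i := by
  unfold wform
  rw [sum_eq_single i (fun j _ hj => by rw [Pi.single_eq_of_ne hj, mul_zero, mul_zero]) (fun h => absurd (mem_univ _) h),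
    Pi.single_eq_same, mul_one]

omit [DecidableEq ι] in
theorem wform_comm (wt : ι → ℚ) (f g : ι → ℚ) : wform wt f g = wform wt g f :=
  sum_congr rfl fun _ _ => by ring

/-- `g` induces `α` -/
def Au (C : Coord n ι) (u : ι → ι → ℚ) (g : (ι → ℚ) ≃ₗ[ℚ] (ι → ℚ)) (α : MulAut (Pauli n)) : Prop :=
  (∀ x, g * C.R x = C.R (α x) * g) ∧ Good.XFact C u g α

open Classical in
/-- extension by zero -/
noncomputable def ex (C : Coord n ι) : W n →ₗ[ℚ] (ι → ℚ) where
  toFun f i := if C.isq i then f (C.qb i) else 0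
  map_add' f g := by funext i; by_cases h : C.isq i <;> simp [h]
  map_smul' a f := by funext i; by_cases h : C.isq i <;> simp [h]

/-- restriction -/
def rs (C : Coord n ι) : (ι → ℚ) →ₗ[ℚ] W n := LinearMap.funLeft ℚ ℚ C.ql

section

variable {C : Coord n ι} {u : ι → ι → ℚ} {g g' : (ι → ℚ) ≃ₗ[ℚ] (ι → ℚ)} {α β : MulAut (Pauli n)}

omit [Fintype ι] in
theorem Au.mul (h : Au C u g α) (h' : Au C u g' β) : Au C u (g * g') (α * β) := by
  refine ⟨fun x => ?_, BabyM.KFact.xfact_mul h.2 h'.2⟩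
  rw [mul_assoc, h'.1, ← mul_assoc, h.1, mul_assoc]
  rfl

omit [Fintype ι] in
theorem Au.one : Au C u 1 1 := ⟨fun x => by rw [one_mul, mul_one]; rfl, BabyM.KFact.xfact_one⟩

omit [Fintype ι] in
theorem Au.pow (h : Au C u g α) : ∀ k : ℕ, Au C u (g ^ k) (α ^ k)
  | 0 => by rw [pow_zero, pow_zero]; exact Au.one
  | k + 1 => by rw [pow_succ, pow_succ]; exact (h.pow k).mul h

omit [Fintype ι] in
theorem Au.unique (h : Au C u g α) (h' : Au C u g β) : α = β := by
  ext1 x
  exact C.R_injective (mul_right_cancel ((h.1 x).symm.trans (h'.1 x)))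

omit [Fintype ι] in
theorem au_R (hg : Good C u) (y : Pauli n) : Au C u (C.R y) (MulAut.conj y) := by
  refine ⟨fun x => ?_, BabyM.KFact.xfact_R hg.u_supp y⟩
  rw [← map_mul, ← map_mul, MulAut.conj_apply, inv_mul_cancel_right]

omit [Fintype ι] [DecidableEq ι] in
theorem ex_ql (f : W n) (e : B n) : ex C f (C.ql e) = f e := by
  show (@ite _ _ (Classical.propDecidable _) _ _) = _
  rw [if_pos (C.isq_ql e), C.qb_ql]

omit [Fintype ι] [DecidableEq ι] in
theorem ex_nq (f : W n) {i : ι} (hi : ¬ C.isq i) : ex C f i = 0 := by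
  show (@ite _ _ (Classical.propDecidable _) _ _) = _
  rw [if_neg hi]

omit [Fintype ι] [DecidableEq ι] in
theorem rs_ex (f : W n) : rs C (ex C f) = f := funext fun e => ex_ql f e

omit [Fintype ι] [DecidableEq ι] in
theorem ex_mem (f : W n) : ex C f ∈ C.S := fun _ hi => ex_nq f hi

omit [Fintype ι] [DecidableEq ι] in
theorem ex_rs {f : ι → ℚ} (hf : f ∈ C.S) : ex C (rs C f) = f := by
  funext i
  by_cases hi : C.isq i
  · rw [← C.ql_qb i hi, ex_ql]; rfl
  · rw [ex_nq _ hi, hf i hi]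

omit [Fintype ι] [DecidableEq ι] in
theorem rs_R (x : Pauli n) (f : ι → ℚ) : rs C (C.R x f) = rho ℚ x (rs C f) := funext fun e => C.R_ql x f e

omit [Fintype ι] [DecidableEq ι] in
theorem R_ex (x : Pauli n) (f : W n) : C.R x (ex C f) = ex C (rho ℚ x f) := by
  rw [← ex_rs (C.R_mem_S x (ex_mem f)), rs_R, rs_ex]

omit [Fintype ι] in
theorem ex_single (e : B n) : ex C (Pi.single e 1) = Pi.single (C.ql e) 1 := by
  funext i
  by_cases hi : C.isq i
  · rw [← C.ql_qb i hi, ex_ql]
    by_cases h : C.qb i = e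
    · rw [h, Pi.single_eq_same, Pi.single_eq_same]
    · rw [Pi.single_eq_of_ne h, Pi.single_eq_of_ne fun h' => h (C.ql_injective h')]
  · rw [ex_nq _ hi, Pi.single_eq_of_ne (show i ≠ C.ql e from fun h' => hi (h' ▸ C.isq_ql e))]

omit [Fintype ι] in
theorem Au.mem_S (h : Au C u g α) {f : ι → ℚ} (hf : f ∈ C.S) : g f ∈ C.S := by
  rw [C.mem_S_iff] at hf ⊢
  have h1 := LinearEquiv.congr_fun (h.1 (Pauli.z n)) f
  rw [aut_z, LinearEquiv.mul_apply, LinearEquiv.mul_apply, hf, map_neg] at h1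
  exact h1.symm

omit [DecidableEq ι] in
theorem sum_q (F : ι → ℚ) (hF : ∀ i, ¬ C.isq i → F i = 0) : ∑ i, F i = ∑ e, F (C.ql e) := by
  classical
  rw [← sum_subset (subset_univ (univ.image C.ql)), sum_image fun a _ b _ h => C.ql_injective h]
  intro i _ hi
  exact hF i fun h => hi (mem_image.2 ⟨_, mem_univ _, C.ql_qb i h⟩)

end

variable {C : Coord n ι} {u : ι → ι → ℚ} {wt : ι → ℚ} {K : Subgroup ((ι → ℚ) ≃ₗ[ℚ] (ι → ℚ))} (h : Hyp C u wt K)

include h

theorem adj {g : (ι → ℚ) ≃ₗ[ℚ] (ι → ℚ)} (hg : g ∈ K) (i j : ι) :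
    wt i * g (Pi.single j 1) i = wt j * g⁻¹ (Pi.single i 1) j := by
  have h1 := h.isom g hg (Pi.single j 1) (g⁻¹ (Pi.single i 1))
  have h2 : g (g⁻¹ (Pi.single i 1)) = Pi.single i 1 := g.apply_symm_apply _
  rw [h2, wform_single, wform_comm, wform_single] at h1
  exact h1

theorem tp_inv (p : ι → Prop) {g : (ι → ℚ) ≃ₗ[ℚ] (ι → ℚ)} (hg : g ∈ K) : tp p g⁻¹ = tp p g := by
  refine sum_congr rfl fun i _ => ?_
  rw [show dg g⁻¹ i = dg g i from (mul_left_cancel₀ (h.wt_pos i).ne' (adj h hg i i)).symm]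

theorem tp_conj {p : ι → Prop} (hp : ∀ k ∈ K, ∀ i j, p j → ¬ p i → k (Pi.single j 1) i = 0)
    {k : (ι → ℚ) ≃ₗ[ℚ] (ι → ℚ)} (hk : k ∈ K) (g : (ι → ℚ) ≃ₗ[ℚ] (ι → ℚ)) : tp p (k * g * k⁻¹) = tp p g := by
  have h1 : pj p * (k : (ι → ℚ) →ₗ[ℚ] (ι → ℚ)) = (k : (ι → ℚ) →ₗ[ℚ] (ι → ℚ)) * pj p := by
    apply LinearMap.pi_ext'
    intro j
    apply LinearMap.ext_ring
    funext i
    show pj p (k (Pi.single j 1)) i = k (pj p (Pi.single j 1)) i
    rw [pj_apply]
    by_cases hj : p j
    · have h2 : pj p (Pi.single j (1 : ℚ)) = Pi.single j 1 := by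
        funext l
        rw [pj_apply]
        split_ifs with hl
        · rfl
        · rw [Pi.single_eq_of_ne (show l ≠ j from fun h' => hl (h' ▸ hj))]
      rw [h2]
      split_ifs with hi
      · rfl
      · exact (hp k hk i j hj hi).symm
    · have h2 : pj p (Pi.single j (1 : ℚ)) = 0 := by
        funext l
        rw [pj_apply]
        split_ifs with hl
        · rw [Pi.single_eq_of_ne (show l ≠ j from fun h' => hj (h' ▸ hl))]; rfl
        · rfl
      rw [h2, map_zero]
      split_ifs with hi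
      · have h3 := adj h hk i j
        rw [hp _ (K.inv_mem hk) j i hi hj, mul_zero] at h3
        exact (mul_eq_zero.1 h3).resolve_left (h.wt_pos i).ne'
      · rfl
  rw [tp_eq, tp_eq]
  have h2 : pj p * ((k * g * k⁻¹ : (ι → ℚ) ≃ₗ[ℚ] (ι → ℚ)) : (ι → ℚ) →ₗ[ℚ] (ι → ℚ)) =
      (pj p * (k : (ι → ℚ) →ₗ[ℚ] (ι → ℚ)) * (g : (ι → ℚ) →ₗ[ℚ] (ι → ℚ))) *
        ((k⁻¹ : (ι → ℚ) ≃ₗ[ℚ] (ι → ℚ)) : (ι → ℚ) →ₗ[ℚ] (ι → ℚ)) := rfl
  rw [h2, h1, LinearMap.trace_mul_comm]
  congr 1
  apply LinearMap.ext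
  intro f
  exact k.symm_apply_apply _

theorem tX_conj {k : (ι → ℚ) ≃ₗ[ℚ] (ι → ℚ)} (hk : k ∈ K) (g : (ι → ℚ) ≃ₗ[ℚ] (ι → ℚ)) :
    tp C.isX (k * g * k⁻¹) = tp C.isX g := by
  refine tp_conj h (fun k hk i j hj hi => ?_) hk g
  obtain ⟨α, -, hX⟩ := h.fact k hk
  obtain ⟨l, hl, s, t, -, -, h1⟩ := hX j hj
  rw [h1, Pi.smul_apply, Pi.single_eq_of_ne (show i ≠ l from fun h' => hi (h' ▸ hl)), smul_zero]

theorem tq_conj {k : (ι → ℚ) ≃ₗ[ℚ] (ι → ℚ)} (hk : k ∈ K) (g : (ι → ℚ) ≃ₗ[ℚ] (ι → ℚ)) :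
    tp C.isq (k * g * k⁻¹) = tp C.isq g := by
  refine tp_conj h (fun k hk i j hj hi => ?_) hk g
  obtain ⟨α, hα⟩ := h.fact k hk
  exact Au.mem_S hα (fun l hl => Pi.single_eq_of_ne (show l ≠ j from fun h' => hl (h' ▸ hj)) _) i hi

theorem tU_conj {k : (ι → ℚ) ≃ₗ[ℚ] (ι → ℚ)} (hk : k ∈ K) (g : (ι → ℚ) ≃ₗ[ℚ] (ι → ℚ)) :
    tp C.isU (k * g * k⁻¹) = tp C.isU g := by
  have h1 := trace_split C (k * g * k⁻¹)
  have h2 := trace_split C g
  have h3 := tp_conj h (p := fun _ => True) (fun _ _ _ _ _ hi => absurd trivial hi) hk g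
  have h4 : ∀ x : (ι → ℚ) ≃ₗ[ℚ] (ι → ℚ), tp (fun _ => True) x = LinearMap.trace ℚ (ι → ℚ) (x : (ι → ℚ) →ₗ[ℚ] (ι → ℚ)) :=
    fun x => by rw [trace_eq]; exact sum_congr rfl fun i _ => if_pos trivial
  rw [h4, h4] at h3
  rw [tX_conj h hk, tq_conj h hk] at h1
  linarith

theorem mem_S {g : (ι → ℚ) ≃ₗ[ℚ] (ι → ℚ)} (hg : g ∈ K) {f : ι → ℚ} (hf : f ∈ C.S) : g f ∈ C.S := by
  obtain ⟨α, hα⟩ := h.fact g hg
  exact Au.mem_S hα hf

theorem sp_mul (g g' : K) : rs C ∘ₗ ((g * g' : K) : (ι → ℚ) ≃ₗ[ℚ] (ι → ℚ)).toLinearMap ∘ₗ ex C =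
    (rs C ∘ₗ (g : (ι → ℚ) ≃ₗ[ℚ] (ι → ℚ)).toLinearMap ∘ₗ ex C) ∘ₗ
      (rs C ∘ₗ (g' : (ι → ℚ) ≃ₗ[ℚ] (ι → ℚ)).toLinearMap ∘ₗ ex C) := by
  apply LinearMap.ext
  intro f
  show rs C (g.1 (g'.1 (ex C f))) = rs C (g.1 (ex C (rs C (g'.1 (ex C f)))))
  rw [ex_rs (mem_S h g'.2 (ex_mem f))]

/-- the restriction to the qubit part -/
noncomputable def sp : K →* (W n ≃ₗ[ℚ] W n) :=
  MonoidHom.mk' (fun g => LinearEquiv.ofLinearMap (rs C ∘ₗ (g : (ι → ℚ) ≃ₗ[ℚ] (ι → ℚ)).toLinearMap ∘ₗ ex C)
    (rs C ∘ₗ ((g⁻¹ : K) : (ι → ℚ) ≃ₗ[ℚ] (ι → ℚ)).toLinearMap ∘ₗ ex C)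
    (by rw [← sp_mul h, mul_inv_cancel]; exact LinearMap.ext rs_ex)
    (by rw [← sp_mul h, inv_mul_cancel]; exact LinearMap.ext rs_ex))
    fun g g' => LinearEquiv.ext fun f => LinearMap.congr_fun (sp_mul h g g') f

theorem sp_apply (g : K) (f : W n) : sp h g f = rs C (g.1 (ex C f)) := rfl

theorem tr_sp (g : K) : tr (sp h g) = tp C.isq g := by
  unfold tr tp
  rw [C2B.tr_W, sum_q (C := C) _ fun i hi => if_neg hi]
  refine sum_congr rfl fun e _ => ?_
  rw [if_pos (C.isq_ql e), dg, ← ex_single]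
  rfl

theorem sp_R (y : Pauli n) : sp h ⟨C.R y, h.Q_le y⟩ = rho ℚ y :=
  LinearEquiv.ext fun f => by rw [sp_apply, rs_R, rs_ex]

theorem wform_ex (f f' : W n) : wform wt (ex C f) (ex C f') = wt (C.ql 0) * (f ⬝ᵥ f') := by
  have h1 : ∀ f f' : W n, wform wt (ex C f) (ex C f') = ∑ e, wt (C.ql e) * (f e * f' e) := fun f f' => by
    unfold wform
    rw [sum_q (C := C) _ fun i hi => by rw [ex_nq _ hi, zero_mul, mul_zero]]
    exact sum_congr rfl fun e _ => by rw [ex_ql, ex_ql]
  have h2 : ∀ e, wt (C.ql e) = wt (C.ql 0) := fun e => by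
    have h3 := h.isom _ (h.Q_le ⟨0, e, 0⟩) (ex C (Pi.single 0 1)) (ex C (Pi.single 0 1))
    rw [R_ex, rho_single] at h3
    simp only [zero_add, zero_dotProduct, sg_zero, mul_one, ex_single, wform_single, Pi.single_eq_same] at h3
    exact h3
  rw [h1, dotProduct, mul_sum]
  exact sum_congr rfl fun e _ => by rw [h2]

theorem cl_sp {g : K} {α : MulAut (Pauli n)} (hα : Au C u g α) : Cl α (sp h g) where
  act p f := by
    rw [sp_apply, sp_apply, ← R_ex, ← LinearEquiv.mul_apply, hα.1, LinearEquiv.mul_apply, rs_R]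
  orth f f' := by
    apply mul_left_cancel₀ (h.wt_pos (C.ql 0)).ne'
    rw [← wform_ex h, ← wform_ex h, sp_apply, sp_apply, ex_rs (mem_S h g.2 (ex_mem f)), ex_rs (mem_S h g.2 (ex_mem f')),
      h.isom _ g.2]

open Classical in
/-- the trace on the `X`-part -/
theorem tX_eq {g : (ι → ℚ) ≃ₗ[ℚ] (ι → ℚ)} {α : MulAut (Pauli n)} (hα : Au C u g α) (τ : ι → ZMod 2)
    (hτ : ∀ i, C.isX i → ∀ t, g (u i) = sg ℚ t • u i → τ i = t) :
    tp C.isX g = ∑ i, if C.isX i ∧ ab (α (C.c i)) = ab (C.c i) then sg ℚ (sv α (C.c i) + τ i) else 0 := by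
  refine sum_congr rfl fun i _ => ?_
  by_cases hi : C.isX i
  · obtain ⟨j, hj, s, t, h1, h2, h3⟩ := hα.2 i hi
    rw [if_pos hi, dg, h3, Pi.smul_apply, smul_eq_mul]
    by_cases hji : j = i
    · subst hji
      have h4 : Sn α (C.c j) s := h1
      rw [if_pos ⟨hi, h4.fix⟩, h4.sv_eq, hτ j hj t h2, Pi.single_eq_same, mul_one]
    · rw [Pi.single_eq_of_ne (Ne.symm hji), mul_zero, if_neg]
      rintro ⟨-, h4⟩
      rw [h1] at h4
      exact hji (h.good.c_inj _ _ hj hi ((ab_ze s _).symm.trans h4))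
  · rw [if_neg hi, if_neg fun h' => hi h'.1]

theorem ab_of_u {g : (ι → ℚ) ≃ₗ[ℚ] (ι → ℚ)} {α : MulAut (Pauli n)} (hα : Au C u g α) {i j : ι} (hi : C.isX i)
    (hj : C.isX j) (hu : g (u i) = u j ∨ g (u i) = - u j) : ab (α (C.c i)) = ab (C.c j) := by
  obtain ⟨l, hl, s, t, h1, h2, -⟩ := hα.2 i hi
  have h3 : l = j := by
    refine h.good.u_inj _ _ hl hj ?_
    rw [h2] at hu
    rcases sg_eq_or ℚ t with h4 | h4 <;> rw [h4] at hu <;> rcases hu with hu | hu
    · left; rw [← hu, one_smul]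
    · right; rw [← neg_neg (u j), ← hu, one_smul]
    · right; rw [← hu, neg_smul, one_smul]
    · left; rw [neg_smul, one_smul] at hu; exact (neg_injective hu).symm
  rw [h1, ← h3]
  exact ab_ze s _

end Cfsg.Agent.TAB.B.C2

private theorem dce_8610ef0a89e2 : _root_.True := by
  try have : _root_.True := by simp only [_root_.Cfsg.Agent.TAB.B.C2.tp.congr_simp]
  try have : _root_.True := by simp only [_root_.Cfsg.Agent.TAB.B.C2.dg.eq_1]
  exact _root_.True.intro
end

-- part: TAB/B/C2/Pk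
section
set_option linter.all false
open scoped Cfsg.Agent.FastGrp

/-!
# Packed arrays, the Walsh transform of a mask, the traversal (helper48)
-/

set_option autoImplicit false

namespace Cfsg.Agent.TAB.B.C2

open Cfsg.Agent.Monster.PauliBasic
open Cfsg.Agent.Monster.PauliBits (bit bit_xor bit_and bit_shiftRight bit_zero bit_eq_zero_of_lt bit_one bit_eq_one_iff)
open Cfsg.Agent.H633.Ore (linL linL_nil linL_cons linL_zero linL_xor linL_map linL_lt force force_eq nth nth_eq Vm
  modEq_card)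
open Finset

/-! ### packed arrays -/

/-- the array of `2 ^ k` fields of width `W` -/
def pk (W k : ℕ) (a : ℕ → ℕ) : ℕ := ∑ p ∈ range (2 ^ k), a p * 2 ^ (W * p)

theorem pk_zero (W : ℕ) (a : ℕ → ℕ) : pk W 0 a = a 0 := by simp [pk]

theorem pk_succ (W k : ℕ) (a : ℕ → ℕ) :
    pk W (k + 1) a = pk W k a + 2 ^ (W * 2 ^ k) * pk W k (fun p => a (2 ^ k + p)) := by
  unfold pk
  rw [pow_succ, mul_two, sum_range_add, mul_sum]
  congr 1
  exact sum_congr rfl fun p _ => by rw [mul_add, pow_add]; ring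

theorem pk_congr {W k : ℕ} {a b : ℕ → ℕ} (h : ∀ p < 2 ^ k, a p = b p) : pk W k a = pk W k b :=
  sum_congr rfl fun p hp => by rw [h p (mem_range.1 hp)]

theorem pk_add (W k : ℕ) (a b : ℕ → ℕ) : pk W k a + pk W k b = pk W k fun p => a p + b p := by
  unfold pk
  rw [← sum_add_distrib]
  exact sum_congr rfl fun p _ => by ring

theorem pk_mul (W k c : ℕ) (a : ℕ → ℕ) : c * pk W k a = pk W k fun p => c * a p := by
  unfold pk
  rw [mul_sum]
  exact sum_congr rfl fun p _ => by ring

theorem pk_lt {W : ℕ} : ∀ {k : ℕ} {a : ℕ → ℕ}, (∀ p < 2 ^ k, a p < 2 ^ W) → pk W k a < 2 ^ (W * 2 ^ k)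
  | 0, a, h => by rw [pk_zero]; simpa using h 0 (by norm_num)
  | k + 1, a, h => by
    have h1 := pk_lt (W := W) (k := k) (a := a) fun p hp => h p (by rw [pow_succ]; omega)
    have h2 := pk_lt (W := W) (k := k) (a := fun p => a (2 ^ k + p)) fun p hp => h _ (by rw [pow_succ]; omega)
    rw [pk_succ, pow_succ 2 k, ← mul_assoc, mul_two, pow_add]
    nlinarith [Nat.two_pow_pos (W * 2 ^ k)]

/-- all fields are one -/
noncomputable def ones (W : ℕ) (k : ℕ) : ℕ :=
  Nat.rec 1 (fun k ih => force ih fun o => Nat.add o (Nat.shiftLeft o (Nat.mul W (Nat.pow 2 k)))) k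

theorem shl_eq (a b : ℕ) : Nat.shiftLeft a b = 2 ^ b * a := by
  show a <<< b = _
  rw [Nat.shiftLeft_eq, mul_comm]

theorem ones_eq (W : ℕ) : ∀ k, ones W k = pk W k fun _ => 1
  | 0 => by rw [pk_zero]; rfl
  | k + 1 => by
    show force (ones W k) (fun o => Nat.add o (Nat.shiftLeft o (Nat.mul W (Nat.pow 2 k)))) = _
    rw [force_eq, shl_eq, ones_eq W k, pk_succ]
    rfl

/-! ### counting in masks -/

/-- the number of elements of the mask with sign zero -/
def cn (M : ℕ) (φ : ℕ → ZMod 2) : ℕ := ∑ i ∈ range 8192, if M.testBit (12 * i) = true ∧ φ i = 0 then 1 else 0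

/-- a submask -/
def Sub (S M : ℕ) : Prop := ∀ b, M.testBit b = true → S.testBit b = true

theorem Sub.and {S M : ℕ} (h : Sub S M) (A : ℕ) : Sub S (M &&& A) := fun b hb => by
  rw [Nat.testBit_and, Bool.and_eq_true] at hb
  exact h b hb.1

theorem Sub.diff {S M : ℕ} (h : Sub S M) (A : ℕ) : Sub S (M ^^^ (M &&& A)) := fun b hb => by
  rw [Nat.testBit_xor, Nat.testBit_and] at hb
  apply h
  revert hb
  cases M.testBit b <;> simp

theorem cn_le {S M : ℕ} (h : Sub S M) (φ : ℕ → ZMod 2) : cn M φ ≤ cn S 0 := by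
  refine sum_le_sum fun i _ => ?_
  split_ifs with h1 h2
  · exact le_rfl
  · exact absurd ⟨h _ h1.1, rfl⟩ h2
  · exact Nat.zero_le _
  · exact le_rfl

/-- a good universe -/
def Un (S : ℕ) : Prop := Vm 8192 S ∧ cn S 0 < 4095

theorem Un.mod {S M : ℕ} (hS : Un S) (h : Sub S M) : M % 4095 = cn M 0 := by
  have h1 : M % 4095 = _ % 4095 := modEq_card 8192 M fun b hb => hS.1 b (h b hb)
  have h2 : ((range 8192).filter fun i => M.testBit (12 * i) = true).card = cn M 0 := by
    rw [card_filter]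
    exact sum_congr rfl fun i _ => by simp
  rw [h1, h2, Nat.mod_eq_of_lt (lt_of_le_of_lt (cn_le h 0) hS.2)]

/-- the sign of a point -/
def ph (PP : List ℕ) (S k e i : ℕ) : ZMod 2 := bit S (12 * i) + ∑ b ∈ range k, bit e b * bit (PP.getD b 0) (12 * i)

/-- evaluation of a positive number, the continuation gets the predecessor -/
@[reducible] def fp {α : Type} (n : ℕ) (f : ℕ → α) : α := Nat.rec (f 0) (fun k _ => f k) n

/-- the transform of the mask `Ms - u` -/
noncomputable def whs (W : ℕ) (PP O : List ℕ) (S : ℕ) (k : ℕ) : ℕ → ℕ → ℕ :=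
  Nat.rec (fun Ms u => Nat.mod (Nat.xor (Nat.sub Ms u) (Nat.land (Nat.sub Ms u) S)) 4095)
    (fun k ih Ms u => Bool.rec
      (fp (Nat.add (Nat.add u u) 2) fun v => fp (Nat.add v 2) fun w =>
        fp (Nat.add (Nat.land (Nat.sub Ms u) (nth PP k)) w) fun M1 =>
        fp (Nat.add (Nat.xor (Nat.sub Ms u) (Nat.land (Nat.sub Ms u) (nth PP k))) (Nat.succ w)) fun M0 =>
        force (ih M0 w) fun P0 => force (ih M1 v) fun P1 => Nat.add (Nat.add P0 P1)
          (Nat.shiftLeft (Nat.sub (Nat.add P0 (Nat.mul (Nat.mod (Nat.land (Nat.sub Ms u) (nth PP k)) 4095) (nth O k))) P1)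
            (Nat.mul W (Nat.pow 2 k)))) 0 (Nat.beq Ms u)) k

/-- the transform -/
noncomputable def wh (W : ℕ) (PP O : List ℕ) (S : ℕ) (k : ℕ) : ℕ → ℕ := fun M => whs W PP O S k M 0

theorem bit_top {e k : ℕ} (he : e < 2 ^ k) (b : ℕ) : bit (2 ^ k + e) b = if b = k then 1 else bit e b := by
  have h1 : 2 ^ k + e = 2 ^ k ^^^ e := by
    have := Nat.two_pow_add_eq_or_of_lt he 1
    rw [mul_one] at this
    rw [this]
    apply Nat.eq_of_testBit_eq
    intro i
    rw [Nat.testBit_or, Nat.testBit_xor, Nat.testBit_two_pow]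
    by_cases h : k = i
    · subst h
      rw [Nat.testBit_eq_false_of_lt he]; simp
    · simp [h]
  rw [h1, bit_xor, bit_two_pow]
  by_cases h : b = k
  · subst h
    rw [if_pos rfl, if_pos rfl, bit_eq_zero_of_lt he, add_zero]
  · rw [if_neg (Ne.symm h), if_neg h, zero_add]

theorem whs_eq {U W : ℕ} (hU : Un U) {PP O : List ℕ} (S : ℕ) : ∀ k, (∀ j < k, O.getD j 0 = ones W j) → ∀ M u, Sub U M →
    whs W PP O S k (M + u) u = pk W k fun e => cn M (ph PP S k e)
  | 0, _, M, u, hM => by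
    rw [pk_zero]
    show ((M + u - u) ^^^ ((M + u - u) &&& S)) % 4095 = _
    rw [Nat.add_sub_cancel, hU.mod (hM.diff S)]
    refine sum_congr rfl fun i _ => ?_
    simp only [ph, range_zero, sum_empty, add_zero, Nat.testBit_xor, Nat.testBit_and, Pi.zero_apply, bit]
    cases M.testBit (12 * i) <;> cases S.testBit (12 * i) <;> simp
  | k + 1, hO, M, u, hM => by
    show (Bool.rec
      (force (whs W PP O S k (((M + u - u) ^^^ ((M + u - u) &&& nth PP k)) + (u + u + 1 + 1)) (u + u + 1 + 1)) fun P0 =>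
        force (whs W PP O S k (((M + u - u) &&& nth PP k) + (u + u + 1)) (u + u + 1)) fun P1 => Nat.add (Nat.add P0 P1)
          (Nat.shiftLeft (Nat.sub (Nat.add P0 (Nat.mul (Nat.mod ((M + u - u) &&& nth PP k) 4095) (nth O k))) P1)
            (Nat.mul W (Nat.pow 2 k)))) 0 (Nat.beq (M + u) u) : ℕ) = _
    rw [Nat.add_sub_cancel]
    cases h0 : Nat.beq (M + u) u
    · simp only [force_eq, nth_eq, shl_eq]
      have ih := whs_eq hU (PP := PP) S k fun j hj => hO j (by omega)
      obtain ⟨A, hA⟩ : ∃ A, A = PP.getD k 0 := ⟨_, rfl⟩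
      rw [← hA, ih _ _ (hM.diff A), ih _ _ (hM.and A)]
      change _ + _ + 2 ^ (W * 2 ^ k) * (_ + (M &&& A) % 4095 * O.getD k 0 - _) = _
      rw [hO k (by omega), ones_eq, hU.mod (hM.and A), pk_succ, pk_add, pk_mul, pk_add]
      refine congrArg₂ (· + ·) ?_ (congrArg (2 ^ (W * 2 ^ k) * ·) ?_)
      · refine pk_congr fun e he => ?_
        unfold cn
        rw [← sum_add_distrib]
        refine sum_congr rfl fun i _ => ?_
        have h1 : ph PP S (k + 1) e i = ph PP S k e i := by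
          unfold ph
          rw [sum_range_succ, bit_eq_zero_of_lt he, zero_mul, add_zero]
        rw [h1, Nat.testBit_xor, Nat.testBit_and]
        cases M.testBit (12 * i) <;> cases A.testBit (12 * i) <;> simp
      · refine Nat.sub_eq_of_eq_add ?_
        rw [pk_add]
        refine pk_congr fun e he => ?_
        unfold cn
        rw [mul_one, ← sum_add_distrib, ← sum_add_distrib]
        refine sum_congr rfl fun i _ => ?_
        have h1 : ph PP S (k + 1) (2 ^ k + e) i = ph PP S k e i + bit A (12 * i) := by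
          unfold ph
          rw [sum_range_succ, bit_top he, if_pos rfl, one_mul, ← hA, add_assoc]
          congr 2
          exact sum_congr rfl fun b hb => by rw [bit_top he, if_neg (by have := mem_range.1 hb; omega)]
        rw [h1, Nat.testBit_xor, Nat.testBit_and, bit]
        rcases zmod2_cases (ph PP S k e i) with h | h <;> rw [h] <;>
          cases M.testBit (12 * i) <;> cases A.testBit (12 * i) <;> simp <;> decide
    · rw [show M = 0 from Nat.add_right_cancel ((Nat.eq_of_beq_eq_true h0).trans (Nat.zero_add u).symm)]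
      simp [pk, cn]

theorem wh_eq {U W : ℕ} (hU : Un U) {PP O : List ℕ} (S : ℕ) : ∀ k, (∀ j < k, O.getD j 0 = ones W j) → ∀ M, Sub U M →
    wh W PP O S k M = pk W k fun e => cn M (ph PP S k e) := fun k hO M hM => whs_eq hU S k hO M 0 hM

/-! ### the traversal -/

/-- the sum over all entries of the array -/
noncomputable def dfs (W : ℕ) (LT : List ℕ) (leaf : ℕ → ℕ → ℕ) (k : ℕ) : ℕ → ℕ → ℕ :=
  Nat.rec leaf (fun k ih X E => force (Nat.mul W (Nat.pow 2 k)) fun s => force (Nat.shiftRight X s) fun hi =>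
    force (Nat.sub X (Nat.shiftLeft hi s)) fun lo => force (Nat.xor E (nth LT k)) fun E' =>
      Nat.add (ih lo E) (ih hi E')) k

theorem linL_top (L : List ℕ) {e k : ℕ} (he : e < 2 ^ k) : linL L (2 ^ k + e) = L.getD k 0 ^^^ linL L e := by
  rw [← linL_two_pow, ← linL_xor]
  congr 1
  refine eq_of_bit (m := k + 1) (by rw [pow_succ]; omega)
    (Nat.xor_lt_two_pow (Nat.pow_lt_pow_right (by norm_num) (by omega)) (by rw [pow_succ]; omega)) fun b _ => ?_
  rw [bit_top he, bit_xor, bit_two_pow]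
  by_cases h : b = k
  · subst h
    rw [if_pos rfl, if_pos rfl, bit_eq_zero_of_lt he, add_zero]
  · rw [if_neg (Ne.symm h), if_neg h, zero_add]

/-! ### digits -/

theorem dig {B : ℕ} : ∀ (n : ℕ) (c : ℕ → ℕ) (t : ℕ), (∀ j < n, c j < B) →
    (∀ j < n, (∑ i ∈ range n, c i * B ^ i + t * B ^ n) / B ^ j % B = c j) ∧
      (∑ i ∈ range n, c i * B ^ i + t * B ^ n) / B ^ n = t
  | 0, c, t, _ => ⟨fun j hj => absurd hj (Nat.not_lt_zero j), by simp⟩
  | n + 1, c, t, h => by
    have h0 := h 0 (by omega)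
    obtain ⟨h1, h2⟩ := dig n (fun j => c (j + 1)) t fun j hj => h _ (by omega)
    have h3 : ∑ i ∈ range (n + 1), c i * B ^ i + t * B ^ (n + 1) =
        c 0 + B * (∑ i ∈ range n, c (i + 1) * B ^ i + t * B ^ n) := by
      rw [sum_range_succ', mul_add, mul_sum, pow_zero, mul_one, sum_congr rfl (fun i _ => show c (i + 1) * B ^ (i + 1) =
        B * (c (i + 1) * B ^ i) by ring)]
      ring
    have h4 : ∀ j, (c 0 + B * (∑ i ∈ range n, c (i + 1) * B ^ i + t * B ^ n)) / B ^ (j + 1) =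
        (∑ i ∈ range n, c (i + 1) * B ^ i + t * B ^ n) / B ^ j := fun j => by
      rw [pow_succ', ← Nat.div_div_eq_div_mul, Nat.add_mul_div_left _ _ (by omega), Nat.div_eq_of_lt h0, zero_add]
    rw [h3]
    refine ⟨fun j hj => ?_, by rw [h4, h2]⟩
    cases j with
    | zero => rw [pow_zero, Nat.div_one, Nat.add_mul_mod_self_left, Nat.mod_eq_of_lt h0]
    | succ j => rw [h4, h1 j (by omega)]

theorem count_of_sum {ι : Type} (s : Finset ι) (φ : ι → ℕ) {CN n : ℕ} (hs : s.card < 2 ^ 32)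
    (h : ∑ x ∈ s, 2 ^ (32 * φ x) = CN) (hn : CN < 2 ^ (32 * n)) :
    (∀ x ∈ s, φ x < n) ∧ ∀ j < n, (s.filter fun x => φ x = j).card = CN / (2 ^ 32) ^ j % 2 ^ 32 := by
  have h1 : ∀ x ∈ s, φ x < n := fun x hx => by
    have h2 : 2 ^ (32 * φ x) ≤ CN := h ▸ single_le_sum (f := fun x => 2 ^ (32 * φ x)) (fun _ _ => Nat.zero_le _) hx
    have h3 := (Nat.pow_lt_pow_iff_right (by norm_num)).1 (lt_of_le_of_lt h2 hn)
    omega
  refine ⟨h1, fun j hj => ?_⟩
  have h2 : CN = ∑ i ∈ range n, (s.filter fun x => φ x = i).card * (2 ^ 32) ^ i + 0 * (2 ^ 32) ^ n := by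
    rw [← h, ← sum_fiberwise_of_maps_to (g := φ) (t := range n) fun x hx => mem_range.2 (h1 x hx), zero_mul, add_zero]
    refine sum_congr rfl fun i _ => ?_
    rw [sum_congr rfl (g := fun _ => (2 ^ 32) ^ i) fun x hx => by rw [(mem_filter.1 hx).2, pow_mul], sum_const, smul_eq_mul]
  rw [h2, (dig n _ 0 fun j _ => lt_of_le_of_lt (card_filter_le _ _) hs).1 j hj]

/-- the position in a list -/
noncomputable def fnd (L : List ℕ) (s : ℕ) : ℕ := List.rec 0 (fun a _ ih => cond (Nat.beq a s) 0 (Nat.succ ih)) L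

theorem fnd_spec (s : ℕ) : ∀ L : List ℕ, fnd L s < L.length → L.getD (fnd L s) 0 = s
  | [], h => absurd h (Nat.not_lt_zero _)
  | a :: L, h => by
    change cond (Nat.beq a s) 0 (Nat.succ (fnd L s)) < _ at h
    show (a :: L).getD (cond (Nat.beq a s) 0 (Nat.succ (fnd L s))) 0 = s
    cases h1 : Nat.beq a s
    · rw [h1] at h
      exact fnd_spec s L (Nat.lt_of_succ_lt_succ h)
    · exact Nat.eq_of_beq_eq_true h1

end Cfsg.Agent.TAB.B.C2

private theorem dce_426108b29b6c : _root_.True := by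
  try have : _root_.True := by simp only [_root_.Cfsg.Agent.TAB.B.C2.pk.eq_1]
  try have : _root_.True := by simp only [_root_.Cfsg.Agent.TAB.B.C2.cn.eq_1]
  try have : _root_.True := by simp only [_root_.Cfsg.Agent.TAB.B.C2.ph.eq_1]
  exact _root_.True.intro
end

-- part: TAB/B/C2/Pk2
section
set_option linter.all false
open scoped Cfsg.Agent.FastGrp

/-!
# More on packed arrays (helper48)
-/

set_option autoImplicit false

namespace Cfsg.Agent.TAB.B.C2

open Cfsg.Agent.Monster.PauliBasic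
open Cfsg.Agent.Monster.PauliBits (bit bit_xor bit_and bit_shiftRight bit_zero bit_eq_zero_of_lt bit_one bit_eq_one_iff)
open Cfsg.Agent.H633.Ore (force force_eq nth nth_eq)
open Finset

theorem testBit_ones {W : ℕ} (hW : 0 < W) : ∀ (k b : ℕ), (ones W k).testBit b = decide (W ∣ b ∧ b < W * 2 ^ k)
  | 0, b => by
    show (1 : ℕ).testBit b = _
    rw [Bool.eq_iff_iff, Nat.testBit_one_eq_true_iff_self_eq_zero, decide_eq_true_eq, pow_zero, mul_one]
    exact ⟨fun h => by subst h; exact ⟨dvd_zero _, hW⟩, fun h => Nat.eq_zero_of_dvd_of_lt h.1 h.2⟩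
  | k + 1, b => by
    have h1 : ones W k < 2 ^ (W * 2 ^ k) := by
      rw [ones_eq]
      exact pk_lt fun _ _ => Nat.one_lt_two_pow hW.ne'
    have h2 : ones W (k + 1) = 2 ^ (W * 2 ^ k) * ones W k + ones W k := by
      rw [ones_eq, pk_succ, ← ones_eq, add_comm]
    rw [h2, Nat.testBit_two_pow_mul_add _ h1, testBit_ones hW k, testBit_ones hW k, pow_succ, ← mul_assoc]
    split_ifs with h
    · rw [decide_eq_decide]
      exact ⟨fun h' => ⟨h'.1, by omega⟩, fun h' => ⟨h'.1, h⟩⟩
    · rw [decide_eq_decide, Nat.dvd_sub_iff_left (by omega) (dvd_mul_right _ _)]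
      exact ⟨fun h' => ⟨h'.1, by omega⟩, fun h' => ⟨h'.1, by omega⟩⟩

theorem pk_hi {W k : ℕ} {a : ℕ → ℕ} (h : ∀ p < 2 ^ (k + 1), a p < 2 ^ W) :
    Nat.shiftRight (pk W (k + 1) a) (Nat.mul W (Nat.pow 2 k)) = pk W k fun p => a (2 ^ k + p) := by
  show pk W (k + 1) a >>> (W * 2 ^ k) = _
  rw [Nat.shiftRight_eq_div_pow, pk_succ, Nat.add_mul_div_left _ _ (Nat.two_pow_pos _),
    Nat.div_eq_of_lt (pk_lt fun p hp => h p (by rw [pow_succ]; omega)), zero_add]

theorem pk_lo (W k : ℕ) (a : ℕ → ℕ) : Nat.sub (pk W (k + 1) a)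
    (Nat.shiftLeft (pk W k fun p => a (2 ^ k + p)) (Nat.mul W (Nat.pow 2 k))) = pk W k a := by
  rw [shl_eq, pk_succ]
  exact Nat.add_sub_cancel _ _

theorem pk_mod {W : ℕ} : ∀ {k : ℕ} {a : ℕ → ℕ}, a 0 < 2 ^ W → pk W k a % 2 ^ W = a 0
  | 0, a, h => by rw [pk_zero, Nat.mod_eq_of_lt h]
  | k + 1, a, h => by
    obtain ⟨t, ht⟩ : 2 ^ W ∣ 2 ^ (W * 2 ^ k) := pow_dvd_pow _ (Nat.le_mul_of_pos_right _ (Nat.two_pow_pos k))
    rw [pk_succ, ht, mul_assoc, Nat.add_mul_mod_self_left, pk_mod h]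

theorem pk_eq_zero {W k : ℕ} {a : ℕ → ℕ} (h : pk W k a = 0) : ∀ p < 2 ^ k, a p = 0 := fun p hp => by
  have h1 := (sum_eq_zero_iff.1 h) p (mem_range.2 hp)
  exact (mul_eq_zero.1 h1).resolve_right (Nat.two_pow_pos _).ne'

/-- a function on all fields -/
noncomputable def mp (W : ℕ) (f : ℕ → ℕ) (k : ℕ) : ℕ → ℕ :=
  Nat.rec f (fun k ih X => force (Nat.mul W (Nat.pow 2 k)) fun s => force (Nat.shiftRight X s) fun hi =>
    force (Nat.sub X (Nat.shiftLeft hi s)) fun lo => Nat.add (ih lo) (Nat.shiftLeft (ih hi) s)) k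

/-- scalar product of the low bits -/
def dk (k e u : ℕ) : ZMod 2 := ∑ b ∈ range k, bit e b * bit u b

/-- the weight of the entries orthogonal to `e` -/
def ws (k : ℕ) (z : ℕ → ℕ) (e : ℕ) : ℕ := ∑ u ∈ range (2 ^ k), if dk k e u = 0 then z u else 0

theorem ws_le {k : ℕ} {z : ℕ → ℕ} (e : ℕ) : ws k z e ≤ ws k z 0 := by
  refine sum_le_sum fun u _ => ?_
  have h : dk k 0 u = 0 := sum_eq_zero fun b _ => by rw [bit_zero, zero_mul]
  rw [if_pos h]
  split_ifs
  · exact le_rfl
  · exact Nat.zero_le _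

theorem ws_zero (k : ℕ) (z : ℕ → ℕ) : ws k z 0 = ∑ u ∈ range (2 ^ k), z u :=
  sum_congr rfl fun u _ => if_pos (sum_eq_zero fun b _ => by rw [bit_zero, zero_mul])

theorem ws_lt {k W : ℕ} {z : ℕ → ℕ} (hz : ∀ p < 2 ^ k, z p ≤ 1) (hk : k < W) (e : ℕ) : ws k z e < 2 ^ W := by
  refine lt_of_le_of_lt (ws_le e) ?_
  rw [ws_zero]
  refine lt_of_le_of_lt (sum_le_card_nsmul _ _ 1 fun p hp => hz p (mem_range.1 hp)) ?_
  rw [card_range, smul_eq_mul, mul_one]
  exact Nat.pow_lt_pow_right (by norm_num) hk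

/-- the transform of an array -/
noncomputable def wh2 (W : ℕ) (O : List ℕ) (k : ℕ) : ℕ → ℕ :=
  Nat.rec (fun Z => Z) (fun k ih Z => cond (Nat.beq Z 0) 0
    (force (Nat.mul W (Nat.pow 2 k)) fun s => force (Nat.shiftRight Z s) fun hi =>
      force (Nat.sub Z (Nat.shiftLeft hi s)) fun lo => force (ih lo) fun P0 => force (ih hi) fun P1 =>
        Nat.add (Nat.add P0 P1) (Nat.shiftLeft
          (Nat.sub (Nat.add P0 (Nat.mul (Nat.land P1 (Nat.pred (Nat.pow 2 W))) (nth O k))) P1) s))) k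

theorem wh2_eq {W : ℕ} {O : List ℕ} : ∀ (k : ℕ), k < W → (∀ j < k, O.getD j 0 = ones W j) → ∀ z : ℕ → ℕ,
    (∀ p < 2 ^ k, z p ≤ 1) → wh2 W O k (pk W k z) = pk W k (ws k z)
  | 0, _, _, z, _ => by
    rw [pk_zero, pk_zero]
    simp [wh2, ws, dk]
  | k + 1, hk, hO, z, hz => by
    show cond (Nat.beq (pk W (k + 1) z) 0) 0
      (force (Nat.mul W (Nat.pow 2 k)) fun s => force (Nat.shiftRight (pk W (k + 1) z) s) fun hi =>
        force (Nat.sub (pk W (k + 1) z) (Nat.shiftLeft hi s)) fun lo => force (wh2 W O k lo) fun P0 =>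
          force (wh2 W O k hi) fun P1 => Nat.add (Nat.add P0 P1) (Nat.shiftLeft
            (Nat.sub (Nat.add P0 (Nat.mul (Nat.land P1 (Nat.pred (Nat.pow 2 W))) (nth O k))) P1) s)) = _
    cases h0 : Nat.beq (pk W (k + 1) z) 0
    · have ih := wh2_eq (W := W) (O := O) k (by omega) fun j hj => hO j (by omega)
      have h1 : ∀ p < 2 ^ k, z p ≤ 1 := fun p hp => hz p (by rw [pow_succ]; omega)
      have h2 : ∀ p < 2 ^ k, z (2 ^ k + p) ≤ 1 := fun p hp => hz _ (by rw [pow_succ]; omega)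
      rw [cond_false, force_eq, force_eq, force_eq, force_eq, force_eq,
        pk_hi fun p hp => lt_of_le_of_lt (hz p hp) (Nat.one_lt_two_pow (by omega)), pk_lo, ih _ h1, ih _ h2, nth_eq,
        hO k (by omega), ones_eq, shl_eq]
      change pk W k (ws k z) + pk W k (ws k fun p => z (2 ^ k + p)) + 2 ^ (W * 2 ^ k) * (pk W k (ws k z) +
        (pk W k (ws k fun p => z (2 ^ k + p)) &&& (2 ^ W - 1)) * pk W k (fun _ => 1) -
          pk W k (ws k fun p => z (2 ^ k + p))) = _
      rw [Nat.and_two_pow_sub_one_eq_mod, pk_mod (ws_lt h2 (by omega) 0), pk_succ, pk_add, pk_mul, pk_add]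
      have h3 : ∀ e u, dk (k + 1) e u = dk k e u + bit e k * bit u k := fun e u => sum_range_succ _ _
      have h4 : ∀ e, ∀ u < 2 ^ k, dk k e (2 ^ k + u) = dk k e u := fun e u hu =>
        sum_congr rfl fun b hb => by rw [bit_top hu, if_neg (by have := mem_range.1 hb; omega)]
      have h5 : ∀ u, ∀ e < 2 ^ k, dk k (2 ^ k + e) u = dk k e u := fun u e he =>
        sum_congr rfl fun b hb => by rw [bit_top he, if_neg (by have := mem_range.1 hb; omega)]
      refine congrArg₂ (· + ·) ?_ (congrArg (2 ^ (W * 2 ^ k) * ·) ?_)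
      · refine pk_congr fun e he => ?_
        unfold ws
        rw [pow_succ, mul_two, sum_range_add]
        refine congrArg₂ (· + ·) (sum_congr rfl fun u _ => ?_) (sum_congr rfl fun u hu => ?_)
        · rw [h3, bit_eq_zero_of_lt he, zero_mul, add_zero]
        · rw [h3, bit_eq_zero_of_lt he, zero_mul, add_zero, h4 e u (mem_range.1 hu)]
      · refine Nat.sub_eq_of_eq_add ?_
        rw [pk_add]
        refine pk_congr fun e he => ?_
        rw [ws_zero, mul_one]
        unfold ws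
        rw [pow_succ, mul_two, sum_range_add, add_assoc, ← sum_add_distrib (s := range (2 ^ k))
          (g := fun u => if dk k e u = 0 then z (2 ^ k + u) else 0)]
        refine congrArg₂ (· + ·) (sum_congr rfl fun u hu => ?_) (sum_congr rfl fun u hu => ?_)
        · rw [h3, bit_eq_zero_of_lt (mem_range.1 hu), mul_zero, add_zero, h5 u e he]
        · rw [h3, bit_top he, bit_top (mem_range.1 hu), if_pos rfl, if_pos rfl, mul_one, h5 _ e he, h4 e u (mem_range.1 hu)]
          rcases zmod2_cases (dk k e u) with h | h <;> rw [h]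
          · simp
          · rw [if_pos (by decide), if_neg (by decide), add_zero]
    · have h1 := pk_eq_zero (Nat.eq_of_beq_eq_true h0)
      refine (sum_eq_zero fun e _ => ?_).symm
      rw [show ws (k + 1) z e = 0 from sum_eq_zero fun u hu => by rw [h1 u (mem_range.1 hu), ite_self], zero_mul]

/-! ### comparison of all fields -/

theorem land_cat {a c s : ℕ} (ha : a < 2 ^ s) (hc : c < 2 ^ s) (b d : ℕ) :
    (a + 2 ^ s * b) &&& (c + 2 ^ s * d) = (a &&& c) + 2 ^ s * (b &&& d) := by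
  apply Nat.eq_of_testBit_eq
  intro i
  rw [Nat.testBit_and, add_comm a, add_comm c, add_comm (a &&& c), Nat.testBit_two_pow_mul_add _ ha,
    Nat.testBit_two_pow_mul_add _ hc, Nat.testBit_two_pow_mul_add _ (lt_of_le_of_lt Nat.and_le_left ha)]
  split_ifs <;> rw [Nat.testBit_and]

theorem pk_land {W : ℕ} : ∀ {k : ℕ} {a b : ℕ → ℕ}, (∀ p < 2 ^ k, a p < 2 ^ W) → (∀ p < 2 ^ k, b p < 2 ^ W) →
    pk W k a &&& pk W k b = pk W k fun p => a p &&& b p
  | 0, _, _, _, _ => by rw [pk_zero, pk_zero, pk_zero]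
  | k + 1, a, b, ha, hb => by
    have h : ∀ p < 2 ^ k, p < 2 ^ (k + 1) ∧ 2 ^ k + p < 2 ^ (k + 1) := fun p hp => by rw [pow_succ]; omega
    rw [pk_succ, pk_succ, pk_succ, land_cat (pk_lt fun p hp => ha p (h p hp).1) (pk_lt fun p hp => hb p (h p hp).1),
      pk_land (fun p hp => ha p (h p hp).1) fun p hp => hb p (h p hp).1,
      pk_land (fun p hp => ha _ (h p hp).2) fun p hp => hb _ (h p hp).2]

/-- the fields which are at least `a` (width 32) -/
noncomputable def geq (o Z a : ℕ) : ℕ :=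
  Nat.shiftRight (Nat.land (Nat.add Z (Nat.mul (Nat.sub 2147483648 a) o)) (Nat.shiftLeft o 31)) 31

theorem geq_eq {k a : ℕ} {z : ℕ → ℕ} (hz : ∀ p < 2 ^ k, z p < 2 ^ 31) (ha : a ≤ 2 ^ 31) :
    geq (ones 32 k) (pk 32 k z) a = pk 32 k fun p => if a ≤ z p then 1 else 0 := by
  unfold geq
  rw [shl_eq, ones_eq]
  change ((pk 32 k z + (2147483648 - a) * pk 32 k fun _ => 1) &&& (2 ^ 31 * pk 32 k fun _ => 1)) >>> 31 = _
  rw [pk_mul, pk_mul, pk_add, pk_land (fun p hp => by have := hz p hp; omega) (fun p _ => by norm_num),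
    pk_congr (b := fun p => 2 ^ 31 * if a ≤ z p then 1 else 0) fun p hp => ?_, ← pk_mul, Nat.shiftRight_eq_div_pow,
    Nat.mul_div_cancel_left _ (by norm_num)]
  have h1 := hz p hp
  rw [mul_one, mul_one, Nat.and_two_pow, Nat.testBit_eq_decide_div_mod_eq]
  split_ifs with h
  · rw [decide_eq_true (by omega)]; rfl
  · rw [decide_eq_false (by omega)]; rfl

/-- the fields which are equal to `a` -/
noncomputable def eqq (o Z a : ℕ) : ℕ := Nat.sub (geq o Z a) (geq o Z (Nat.succ a))

theorem eqq_eq {k a : ℕ} {z : ℕ → ℕ} (hz : ∀ p < 2 ^ k, z p < 2 ^ 31) (ha : a < 2 ^ 31) :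
    eqq (ones 32 k) (pk 32 k z) a = pk 32 k fun p => if z p = a then 1 else 0 := by
  unfold eqq
  rw [geq_eq hz ha.le, geq_eq hz (Nat.succ_le_of_lt ha)]
  refine Nat.sub_eq_of_eq_add ?_
  rw [pk_add]
  refine pk_congr fun p _ => ?_
  split_ifs <;> omega

theorem pk_sum (k : ℕ) (a : ℕ → ℕ) : pk 32 k a ≡ ∑ p ∈ range (2 ^ k), a p [MOD 4294967295] := by
  unfold pk
  refine Nat.ModEq.sum fun p _ => ?_
  have h1 : (2 ^ 32) ^ p ≡ 1 ^ p [MOD 4294967295] := Nat.ModEq.pow p (by decide)
  rw [one_pow, ← pow_mul] at h1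
  simpa using h1.mul_left (a p)

end Cfsg.Agent.TAB.B.C2

private theorem dce_327ea3f75648 : _root_.True := by
  try have : _root_.True := by simp only [_root_.Cfsg.Agent.TAB.B.C2.dk.eq_1]
  try have : _root_.True := by simp only [_root_.Cfsg.Agent.TAB.B.C2.wh2.eq_1]
  try have : _root_.True := by simp only [_root_.Cfsg.Agent.TAB.B.C2.ws.eq_1]
  exact _root_.True.intro
end
end
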